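import Cfsg.Agent.KnownSimple.Multiplier.E6T.Orbits

/-!
The coordinates of the factors of the central series of the unipotent subgroup of `²E₆(q)`.
-/

set_option autoImplicit false
set_option linter.unusedSectionVars false

namespace Cfsg.Agent.Twisted.TypeE6

open ChevGroup ChevIsogeny Cfsg.Lie
open scoped commutatorElement

variable {F : Type*} [Field F]

/-- the coordinates of a fixed element of the factor `i` -/
def co (q : ℕ) (i : Fin 24) (t : F) (r : Fin MT.tab.n) : F :=
  if r = rep i then t else (PP.ef (rep i).val : F) * t ^ q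

theorem co_rep (q : ℕ) (i : Fin 24) (t : F) : co q i t (rep i) = t := if_pos rfl

theorem co_rho (q : ℕ) {i : Fin 24} (hi : ¬ small i) (t : F) :
    co q i t (fd.O.rho (rep i)) = (PP.ef (rep i).val : F) * t ^ q := if_neg hi

variable [Fintype F] {q : ℕ}

section

variable (hq : IsPrimePow q) (hK : Fintype.card F = q ^ 2)
include hq hK

theorem qpow_neg (a : F) : (-a) ^ q = -a ^ q := by
  refine eq_neg_of_add_eq_zero_left ?_
  rw [← (qpow_hom hq hK).1, neg_add_cancel, zero_pow hq.pos.ne']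

theorem qpow_qpow (a : F) : (a ^ q) ^ q = a := by
  rw [← pow_mul, ← pow_two]
  exact (qpow_hom hq hK).2.2 a

theorem intCast_qpow (z : ℤ) : (z : F) ^ q = z := (qpow_hom hq hK).2.1 z

theorem co_add (i : Fin 24) (t u : F) (r : Fin MT.tab.n) :
    co q i (t + u) r = co q i t r + co q i u r := by
  unfold co
  split_ifs <;> simp only [(qpow_hom hq hK).1, mul_add]

theorem co_zero (i : Fin 24) (r : Fin MT.tab.n) : co q i (0 : F) r = 0 := by
  have := co_add hq hK i (0 : F) 0 r
  rw [add_zero] at this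
  exact left_eq_add.1 this

/-- the parameters in a factor that are allowed -/
noncomputable def Vf (i : Fin 24) : AddSubgroup F :=
  if small i then
    { carrier := {t | t ^ q = t}
      zero_mem' := zero_pow hq.pos.ne'
      add_mem' := fun {a b} ha hb => by
        show (a + b) ^ q = a + b
        rw [(qpow_hom hq hK).1, show a ^ q = a from ha, show b ^ q = b from hb]
      neg_mem' := fun {a} ha => by
        show (-a) ^ q = -a
        rw [qpow_neg hq hK, show a ^ q = a from ha] }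
  else ⊤

theorem mem_Vf_small {i : Fin 24} (hi : small i) {t : F} : t ∈ Vf hq hK i ↔ t ^ q = t := by
  unfold Vf
  rw [if_pos hi]
  rfl

theorem mem_Vf_big {i : Fin 24} (hi : ¬ small i) (t : F) : t ∈ Vf hq hK i := by
  unfold Vf
  rw [if_neg hi]
  trivial

end

omit [Fintype F] in
theorem lam_q (r : Fin MT.tab.n) : IsoHyp.lam PP q r.val = q := by
  show ChevIsogeny.IsoData.lf PP r.val * q = q
  rw [lf_one r, one_mul]

variable {K : Rels chevE6 F} (Z : Frame (T := MT) K PP q fd)
  (hq : IsPrimePow q) (hK : Fintype.card F = q ^ 2)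

set_option quotPrecheck false in
local notation "G₁" => genG MT K (e6Words F q)

include Z hq hK

theorem co_fix (i : Fin 24) {t : F} (ht : t ∈ Vf hq hK i) :
    ∀ r ∈ fac i, co q i t (fd.O.rho r) = (PP.ef r.val : F) * co q i t r ^ IsoHyp.lam PP q r.val := by
  intro r hr
  rw [lam_q]
  rcases fac_cases i r hr with rfl | rfl
  · by_cases hi : small i
    · rw [show fd.O.rho (rep i) = rep i from hi, co_rep, (mem_Vf_small hq hK hi).1 ht,
        ((ef_rep i).2 hi).1, Int.cast_one, one_mul]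
    · rw [co_rho q hi, co_rep]
  · by_cases hi : small i
    · have hi' : fd.O.rho (rep i) = rep i := hi
      rw [hi', hi', co_rep, (mem_Vf_small hq hK hi).1 ht, ((ef_rep i).2 hi).1, Int.cast_one, one_mul]
    · rw [rho_rep i, co_rep, co_rho q hi, mul_pow, intCast_qpow hq hK, qpow_qpow hq hK, ← mul_assoc,
        ← Int.cast_mul, (ef_rep i).1, Int.cast_one, one_mul]

theorem fac_mem (i : Fin 24) {t : F} (ht : t ∈ Vf hq hK i) :
    prodX MT K (fac i) (co q i t) ∈ G₁ := by
  have hfix := Z.prodX_fixed (fac_comm i) (co q i t) (co_fix Z hq hK i ht)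
  have hU : prodX MT K (fac i) (co q i t) ∈ (MT.rel K).U :=
    Subgroup.list_prod_mem _ fun y hy => by
      obtain ⟨r, hr, rfl⟩ := List.mem_map.1 hy
      exact Subgroup.subset_closure ⟨r, _, mem_pl.1 (fac_pos i r hr), rfl⟩
  exact (Subgroup.mem_inf.1 ((gens Z hq hK).data.mem_U1_of_fixed (MT.shapeR K)
    ((gens Z hq hK).longest long_ok) hU hfix)).1

/-- the parametrisation of a factor inside the group -/
noncomputable def eF (i : Fin 24) (t : F) : ↥G₁ :=
  open Classical in
  if h : t ∈ Vf hq hK i then ⟨prodX MT K (fac i) (co q i t), fac_mem Z hq hK i h⟩ else 1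

theorem eF_coe (i : Fin 24) {t : F} (ht : t ∈ Vf hq hK i) :
    (eF Z hq hK i t : ↥(chevE6.group F)) = prodX MT K (fac i) (co q i t) := by
  rw [eF, dif_pos ht]

/-- a term of the series inside the group -/
def FlF (i : ℕ) : Subgroup ↥G₁ := (Sg (MT.rel K) (· ∈ lev i)).subgroupOf G₁

theorem rep_eq (i : Fin 24) {r : Fin MT.tab.n} (v : Fin MT.tab.n → F)
    (hv : ∀ r ∈ fac i, v (fd.O.rho r) = (PP.ef r.val : F) * v r ^ IsoHyp.lam PP q r.val)
    (hr : r ∈ fac i) : v r = co q i (v (rep i)) r ∧ (small i → v (rep i) ^ q = v (rep i)) := by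
  have h1 := hv (rep i) (rep_mem i)
  rw [lam_q] at h1
  refine ⟨?_, fun hi => ?_⟩
  · rcases fac_cases i r hr with rfl | rfl
    · rw [co_rep]
    · by_cases hi : small i
      · rw [show fd.O.rho (rep i) = rep i from hi, co_rep]
      · rw [h1, co_rho q hi]
  · rw [show fd.O.rho (rep i) = rep i from hi, ((ef_rep i).2 hi).1, Int.cast_one, one_mul] at h1
    exact h1.symm

theorem sigma_lev (i : Fin 25) {g : ↥(chevE6.group F)} (hg : g ∈ Sg (MT.rel K) (· ∈ lev i.val)) :
    Z.σ g ∈ Sg (MT.rel K) (· ∈ lev i.val) := by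
  induction hg using Subgroup.closure_induction with
  | mem y hy =>
    obtain ⟨r, t, hr, rfl⟩ := hy
    rw [Z.σ_x]
    exact x_mem_Sg _ (rho_lev i r hr) _
  | one => simp
  | mul a b _ _ ha hb => rw [map_mul]; exact mul_mem ha hb
  | inv a _ ha => rw [map_inv]; exact inv_mem ha

theorem FlF_dec (i : Fin 24) {g : ↥G₁} (hg : g ∈ FlF (i.val + 1)) :
    ∃ t ∈ Vf hq hK i, (eF Z hq hK i t)⁻¹ * g ∈ FlF i.val := by
  classical
  have hl := lev_ok i
  have hl' := hl
  simp only [levelB, Bool.and_eq_true, decide_eq_true_eq, List.all_eq_true] at hl'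
  have hgL : (g : ↥(chevE6.group F)) ∈ Sg (MT.rel K) (· ∈ lev (i.val + 1)) := hg
  obtain ⟨v, hv⟩ := Z.exists_prodX_closed hl'.1.1.2 (hl'.1.1.1.1.nodup Z.posList_nodup) hgL
  have h1 := Z.level_split hl (M := lev (i.val + 1)) (List.Subset.refl _) v
  rw [fac_eq i, ← hv] at h1
  have hρ : ∀ r ∈ fac i, fd.O.rho r ∈ fac i := by
    have := fac_comm i
    simp only [commListB, Bool.and_eq_true, decide_eq_true_eq, List.all_eq_true] at this
    exact this.1.1.2
  let inv : Fin MT.tab.n → Fin MT.tab.n := Function.surjInv Z.rho_surj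
  have hinj : Function.Injective fd.O.rho := Finite.injective_iff_surjective.2 Z.rho_surj
  let w : Fin MT.tab.n → F := fun u => (PP.ef (inv u).val : F) * v (inv u) ^ IsoHyp.lam PP q (inv u).val
  have hw : ∀ u ∈ fac i, w (fd.O.rho u) = (PP.ef u.val : F) * v u ^ IsoHyp.lam PP q u.val :=
    fun u _ => by simp only [w, inv, hinj (Function.surjInv_eq Z.rho_surj (fd.O.rho u))]
  have hσ : Z.σ (prodX MT K (fac i) v) = prodX MT K (fac i) w := Z.σ_prodX (fac_comm i) v w hw
  have hgfix : Z.σ (g : ↥(chevE6.group F)) = g := fixed_gen Z (qpow_hom hq hK).2.2 _ g.2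
  have h2 := sigma_lev Z hq hK ⟨i.val, by omega⟩ h1
  rw [map_mul, map_inv, hσ, hgfix] at h2
  have h3 := mul_mem h1 (inv_mem h2)
  rw [_root_.mul_inv_rev, inv_inv, mul_assoc, mul_inv_cancel_left] at h3
  have hcm : ∀ r ∈ fac i, ∀ s ∈ fac i, ∀ a b : F,
      Commute ((MT.rel K).x r a) ((MT.rel K).x s b) := fun r hr s hs => Z.commList_commute (fac_comm i) hr hs
  have h4 : prodX MT K (fac i) (w - v) ∈ Sg (MT.rel K) (· ∈ lev i.val) := by
    have e : prodX MT K (fac i) v * prodX MT K (fac i) (w - v) = prodX MT K (fac i) w := by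
      rw [Z.prodX_mul hcm, add_sub_cancel]
    rwa [← e, inv_mul_cancel_left] at h3
  have h5 := Z.level_lead hl (v := w - v) (by rwa [fac_eq i])
  rw [fac_eq i] at h5
  have hvfix : ∀ r ∈ fac i, v (fd.O.rho r) = (PP.ef r.val : F) * v r ^ IsoHyp.lam PP q r.val :=
    fun r hr => by rw [← hw r hr]; exact (sub_eq_zero.1 (h5 _ (hρ r hr))).symm
  have hrep := fun r hr => rep_eq Z hq hK i v hvfix (r := r) hr
  have htV : v (rep i) ∈ Vf hq hK i := by
    by_cases hs : small i
    · exact (mem_Vf_small hq hK hs).2 ((hrep _ (rep_mem i)).2 hs)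
    · exact mem_Vf_big hq hK hs _
  refine ⟨v (rep i), htV, ?_⟩
  show (eF Z hq hK i (v (rep i)) : ↥(chevE6.group F))⁻¹ * g ∈ Sg (MT.rel K) (· ∈ lev i.val)
  rwa [eF_coe Z hq hK i htV, Z.prodX_congr (w := v) fun r hr => ((hrep r hr).1).symm]

theorem FlF_inj (i : Fin 24) {t : F} (ht : t ∈ Vf hq hK i) (h : eF Z hq hK i t ∈ FlF i.val) :
    t = 0 := by
  have h' : (eF Z hq hK i t : ↥(chevE6.group F)) ∈ Sg (MT.rel K) (· ∈ lev i.val) := h
  rw [eF_coe Z hq hK i ht, ← fac_eq i] at h'
  have h2 := Z.level_lead (lev_ok i) h' (rep i) (by rw [fac_eq i]; exact rep_mem i)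
  rwa [co_rep] at h2

theorem eF_add (i : Fin 24) {t u : F} (ht : t ∈ Vf hq hK i) (hu : u ∈ Vf hq hK i) :
    eF Z hq hK i (t + u) = eF Z hq hK i t * eF Z hq hK i u := by
  refine Subtype.ext ?_
  rw [Subgroup.coe_mul, eF_coe Z hq hK i (add_mem ht hu), eF_coe Z hq hK i ht, eF_coe Z hq hK i hu,
    Z.prodX_mul fun r hr s hs => Z.commList_commute (fac_comm i) hr hs]
  exact Z.prodX_congr fun r _ => co_add hq hK i t u r

end Cfsg.Agent.Twisted.TypeE6
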