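import Cfsg.Agent.Twisted.Groups.E6Inst
import Cfsg.Agent.KnownSimple.Steinberg.MultE6

/-!
A stem extension of `²E₆(q)` with kernel of order three, for `3 ∣ q + 1`: the lift of the generators in
the universal group of type E6.
-/

set_option autoImplicit false
set_option linter.unusedSectionVars false
set_option maxRecDepth 4000

namespace Cfsg.Agent.Twisted.TypeE6

open Cfsg Cfsg.Lie Cfsg.Agent.ChevCore Cfsg.Agent.ChevGroup
open Cfsg.Agent.KnownSimple
open scoped commutatorElement

universe w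

theorem word_roots : ∀ r ∈ [e6p2, e6m2, e6p4, e6m4], r < chevE6.nroots := by decide +kernel

theorem word_pairs : ∀ rs ∈ [(e6p1, e6p6), (e6m1, e6m6), (e6p3, e6p5), (e6m3, e6m5)],
    rs.1 < chevE6.nroots ∧ rs.2 < chevE6.nroots ∧ rs.2 ≠ chevE6.neg rs.1 ∧
      chevE6.chainEntry rs.1 rs.2 = [] := by decide +kernel

/-- two orthogonal roots exchanged by the symmetry, with their negatives -/
def orthPair (a b : ℕ) : Bool :=
  decide (a < chevE6.nroots) && decide (b < chevE6.nroots) &&
    decide ((a, b) ∈ [(e6p1, e6p6), (e6m1, e6m6), (e6p3, e6p5), (e6m3, e6m5)]) &&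
    decide ((chevE6.neg a, chevE6.neg b) ∈ [(e6p1, e6p6), (e6m1, e6m6), (e6p3, e6p5), (e6m3, e6m5)]) &&
    ([a, chevE6.neg a].all fun x => [b, chevE6.neg b].all fun y =>
      decide (y ≠ chevE6.neg x) && decide (chevE6.chainEntry x y = []))

theorem orth16 : orthPair e6p1 e6p6 = true := by decide +kernel

theorem orth35 : orthPair e6p3 e6p5 = true := by decide +kernel

theorem simple_idx : chevE6.simple 0 = e6p1 ∧ chevE6.simple 2 = e6p3 ∧ chevE6.simple 4 = e6p5 ∧
    chevE6.simple 5 = e6p6 ∧ chevE6.rank = 6 := by decide +kernel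

variable (F : Type w) [Field F] [Fintype F]

/-- the relations in the universal group -/
noncomputable abbrev stR : Steinberg.RelSys chevE6 F (chevE6.SteinbergGroup F) :=
  (Steinberg.stData (F := F) Steinberg.sldE6).relSys Steinberg.sldE6

theorem stGen :
    Subgroup.closure {g | ∃ r t, r < chevE6.nroots ∧ g = (stR F).y r t} = ⊤ :=
  (Steinberg.stData (F := F) Steinberg.sldE6).closure_gen Steinberg.sldE6

/-- a word in the universal group -/
noncomputable def wlift (w : List (ℕ × F)) : chevE6.SteinbergGroup F :=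
  (w.map fun p => (stR F).y p.1 p.2).prod

variable {F}

theorem wlift_two {a b : ℕ} (t u : F) :
    wlift F [(a, t), (b, u)] = (stR F).y a t * (stR F).y b u := by simp [wlift]

theorem words_lt {q : ℕ} {w : List (ℕ × F)} (hw : w ∈ e6Words F q) :
    ∀ p ∈ w, p.1 < chevE6.nroots := by
  rcases hw with ⟨t, -, r, hr, rfl⟩ | ⟨t, rs, hr, rfl⟩ <;> intro p hp <;>
    simp only [List.mem_cons, List.not_mem_nil, or_false] at hp
  · subst hp; exact word_roots r hr
  · rcases hp with rfl | rfl
    · exact (word_pairs rs hr).1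
    · exact (word_pairs rs hr).2.1

/-- the lift of the twisted group -/
noncomputable def lifted (F : Type w) [Field F] [Fintype F] (q : ℕ) :
    Subgroup (chevE6.SteinbergGroup F) :=
  Subgroup.closure (wlift F '' e6Words F q)

theorem π_wlift {w : List (ℕ × F)} (hw : ∀ p ∈ w, p.1 < chevE6.nroots) :
    (((stR F).π (wlift F w) : GL chevE6.Idx F) : Matrix chevE6.Idx chevE6.Idx F) =
      chevE6.wordMat F w := by
  induction w with
  | nil => simp [wlift, ChevalleyDatum.wordMat]
  | cons p w ih =>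
    simp only [wlift, ChevalleyDatum.wordMat, List.map_cons, List.prod_cons] at ih ⊢
    rw [map_mul, Units.val_mul, ih (fun x hx => hw x (List.mem_cons_of_mem _ hx)),
      (stR F).π_y _ (hw p (List.mem_cons_self ..)), Steinberg.sldE6.good.toGood.val_xg]

theorem map_lifted (q : ℕ) : (lifted F q).map (stR F).π = twistedE6 F q := by
  rw [lifted, MonoidHom.map_closure, twistedE6, ChevalleyDatum.genSubgroup]
  congr 1
  ext g
  constructor
  · rintro ⟨_, ⟨w, hw, rfl⟩, rfl⟩
    exact ⟨w, hw, π_wlift (words_lt hw)⟩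
  · rintro ⟨w, hw, e⟩
    exact ⟨wlift F w, ⟨w, hw, rfl⟩, Units.ext (by rw [π_wlift (words_lt hw), e])⟩

variable {q : ℕ} (hq : IsPrimePow q) (hK : Fintype.card F = q ^ 2)
include hq hK

theorem pair_nn_mem {a b : ℕ} (h : orthPair a b = true) (t : F) :
    (stR F).nn a t * (stR F).nn b (t ^ q) ∈ lifted F q := by
  simp only [orthPair, Bool.and_eq_true, decide_eq_true_eq, List.all_eq_true] at h
  obtain ⟨⟨⟨⟨ha, hb⟩, hab⟩, hab'⟩, hc⟩ := h
  have hD := Steinberg.sldE6.good.toGood
  have hcm : ∀ x ∈ [a, chevE6.neg a], ∀ y ∈ [b, chevE6.neg b], ∀ t u : F,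
      Commute ((stR F).y y u) ((stR F).y x t) := fun x hx y hy t u => by
    obtain ⟨h1, h2⟩ := hc x hx y hy
    have hx' : x < chevE6.nroots := by
      rcases List.mem_pair.1 hx with rfl | rfl
      exacts [ha, hD.neg_lt ha]
    have hy' : y < chevE6.nroots := by
      rcases List.mem_pair.1 hy with rfl | rfl
      exacts [hb, hD.neg_lt hb]
    exact ((stR F).comm0 x y hx' hy' h1 h2 t u).symm
  have m1 : ∀ s : F, (stR F).y a s * (stR F).y b (s ^ q) ∈ lifted F q := fun s =>
    Subgroup.subset_closure ⟨_, Or.inr ⟨s, (a, b), hab, rfl⟩, wlift_two s (s ^ q)⟩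
  have m2 : ∀ s : F, (stR F).y (chevE6.neg a) s * (stR F).y (chevE6.neg b) (s ^ q) ∈ lifted F q :=
    fun s => Subgroup.subset_closure
      ⟨_, Or.inr ⟨s, (chevE6.neg a, chevE6.neg b), hab', rfl⟩, wlift_two s (s ^ q)⟩
  have e : (-t⁻¹) ^ q = -(t ^ q)⁻¹ := qpow_inv_neg (qpow_hom hq hK).1 hq.pos.ne' t
  have h3 := mul_mem (mul_mem (m1 t) (m2 (-t⁻¹))) (m1 t)
  rw [e] at h3
  convert h3 using 1
  simp only [Steinberg.RelSys.nn]
  set A := (stR F).y a t
  set B := (stR F).y b (t ^ q)
  set A' := (stR F).y (chevE6.neg a) (-t⁻¹) with hA'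
  set B' := (stR F).y (chevE6.neg b) (-(t ^ q)⁻¹) with hB'
  have c1 : Commute B A' := hcm _ (by simp) _ (by simp) _ _
  have c2 : Commute B A := hcm _ (by simp) _ (by simp) _ _
  have c3 : Commute B' A := hcm _ (by simp) _ (by simp) _ _
  calc A * A' * A * (B * B' * B) = A * A' * (A * B) * B' * B := by group
    _ = A * A' * (B * A) * B' * B := by rw [c2.eq]
    _ = A * (A' * B) * (A * B') * B := by group
    _ = A * (B * A') * (B' * A) * B := by rw [c1.eq, c3.eq]
    _ = A * B * (A' * B') * (A * B) := by group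

theorem pair_hh_mem {a b : ℕ} (h : orthPair a b = true) (t : F) :
    (stR F).hh a t * (stR F).hh b (t ^ q) ∈ lifted F q := by
  have h' := h
  simp only [orthPair, Bool.and_eq_true, decide_eq_true_eq, List.all_eq_true] at h'
  obtain ⟨⟨⟨⟨ha, hb⟩, -⟩, -⟩, hc⟩ := h'
  have hD := Steinberg.sldE6.good.toGood
  have hcy : ∀ x ∈ [a, chevE6.neg a], ∀ y ∈ [b, chevE6.neg b], ∀ t u : F,
      Commute ((stR F).y y u) ((stR F).y x t) := fun x hx y hy t u => by
    obtain ⟨h1, h2⟩ := hc x hx y hy
    have hx' : x < chevE6.nroots := by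
      rcases List.mem_pair.1 hx with rfl | rfl
      exacts [ha, hD.neg_lt ha]
    have hy' : y < chevE6.nroots := by
      rcases List.mem_pair.1 hy with rfl | rfl
      exacts [hb, hD.neg_lt hb]
    exact ((stR F).comm0 x y hx' hy' h1 h2 t u).symm
  have hn : ∀ s u : F, Commute ((stR F).nn b s) ((stR F).nn a u) := by
    intro s u
    have hy : ∀ y ∈ [b, chevE6.neg b], ∀ v, Commute ((stR F).y y v) ((stR F).nn a u) := fun y hy v =>
      ((hcy _ (by simp) y hy _ v).mul_right (hcy _ (by simp) y hy _ v)).mul_right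
        (hcy _ (by simp) y hy _ v)
    exact ((hy b (by simp) _).mul_left (hy _ (by simp) _)).mul_left (hy b (by simp) _)
  have e : (-1 : F) ^ q = -1 := by
    simpa using qpow_inv_neg (qpow_hom hq hK).1 hq.pos.ne' (1 : F)
  have h1 := mul_mem (pair_nn_mem hq hK h t) (pair_nn_mem hq hK h (-1 : F))
  rw [e] at h1
  convert h1 using 1
  simp only [Steinberg.RelSys.hh]
  calc (stR F).nn a t * (stR F).nn a (-1) * ((stR F).nn b (t ^ q) * (stR F).nn b (-1))
      = (stR F).nn a t * ((stR F).nn a (-1) * (stR F).nn b (t ^ q)) * (stR F).nn b (-1) := by group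
    _ = (stR F).nn a t * ((stR F).nn b (t ^ q) * (stR F).nn a (-1)) * (stR F).nn b (-1) := by
      rw [(hn _ _).eq]
    _ = (stR F).nn a t * (stR F).nn b (t ^ q) * ((stR F).nn a (-1) * (stR F).nn b (-1)) := by group

omit q hq hK in
/-- the element of the centre of the universal group given by a cube root of unity -/
theorem centre_facts (x : Fˣ) (hx : x ^ 3 = 1) (hx1 : x ≠ 1) :
    let c : Fin chevE6.rank → Fˣ := fun i => x ^ ((([1, 0, 2, 0, 1, 2] : List ℕ).getD i.val 0 : ℕ) : ℤ)
    (stR F).π ((stR F).theta Steinberg.sldE6 TypeE6.model (stGen F) c) = 1 ∧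
      (stR F).theta Steinberg.sldE6 TypeE6.model (stGen F) c ≠ 1 := by
  intro c
  classical
  have hS := Steinberg.sldE6
  have hD := hS.good.toGood
  have hD' := Steinberg.sldE7.good.toGood
  have hι := Steinberg.embE6E7
  have hc := Steinberg.centreE6
  simp only [Steinberg.centreB, Bool.and_eq_true, decide_eq_true_eq] at hc
  obtain ⟨⟨⟨⟨hc0, hrk⟩, hw⟩, hc1⟩, hsimp⟩ := hc
  set R := stR F
  set z := R.theta hS TypeE6.model (stGen F) c
  have hxm : ∀ z : ℤ, z % (3 : ℤ) = 0 → x ^ z = 1 := fun z hz => by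
    obtain ⟨d, rfl⟩ := Int.dvd_of_emod_eq_zero hz
    rw [show (3 : ℤ) = ((3 : ℕ) : ℤ) from rfl, zpow_mul, zpow_natCast, hx, one_zpow]
  have hsum : ∀ (f : ℕ → ℤ), ∏ i : Fin chevE6.rank, c i ^ f i.val =
      x ^ ((List.range chevE6.rank).map fun i =>
        ((([1, 0, 2, 0, 1, 2] : List ℕ).getD i 0 : ℕ) : ℤ) * f i).sum := fun f => by
    rw [show (∏ i : Fin chevE6.rank, c i ^ f i.val) =
      ∏ i : Fin chevE6.rank, x ^ (((([1, 0, 2, 0, 1, 2] : List ℕ).getD i.val 0 : ℕ) : ℤ) * f i.val) from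
      Finset.prod_congr rfl fun i _ => (zpow_mul x _ _).symm, Steinberg.prod_zpow_sum]
    congr 1
  refine ⟨?_, ?_⟩
  · refine Units.ext ?_
    obtain ⟨χ, -, hd⟩ := R.diag_of_H hS TypeE6.model (g := z) (by
      have h0 : z ∈ (R.theta hS TypeE6.model (stGen F)).range := ⟨c, rfl⟩
      rw [R.theta_range_eq hS TypeE6.model (stGen F)] at h0
      refine (iSup_le fun i => ?_ : _ ≤ (R.rootRel hS TypeE6.model).H) h0
      rintro _ ⟨t, rfl⟩
      exact R.hh_mem_H hS TypeE6.model (hD.simple_lt i.isLt) t.ne_zero)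
    rw [hd, Units.val_one, ← Matrix.diagonal_one]
    congr 1
    funext a
    have e1 := Steinberg.prod_diag hD (R.π.comp (R.theta hS TypeE6.model (stGen F)))
      (fun i => chevE6.simple i.val)
      (fun i => hD.simple_lt i.isLt) (fun i t => by
        rw [MonoidHom.comp_apply, R.theta_single, R.π_hh hS (hD.simple_lt i.isLt)]) c a
    rw [MonoidHom.comp_apply, hd, Matrix.diagonal_apply_eq] at e1
    rw [e1]
    rcases a with j | s
    · simp [wp]
    · simp only [wp, Sum.elim_inr, hD.pairing_simple (Fin.isLt _)]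
      rw [hsum fun i => chevE6.cartan i s.val, hxm _ (hc0 s.val s.isLt), Units.val_one]
  · intro hz1
    let Ψ : chevE6.SteinbergGroup F →* GL chevE7.Idx F :=
      PresentedGroup.toGroup (f := fun p : Fin chevE6.nroots × F =>
          xg chevE7 F (Steinberg.iotaK Steinberg.packE6E7 p.1.val) p.2)
        fun _ h => Steinberg.lift_emb hS Steinberg.sldE7 hι h
    have hΨy : ∀ r, r < chevE6.nroots → ∀ t,
        Ψ (R.y r t) = xg chevE7 F (Steinberg.iotaK Steinberg.packE6E7 r) t := fun r hr t => by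
      show Ψ (PresentedGroup.mk _ (chevE6.stX r t)) = _
      rw [ChevalleyDatum.stX, dif_pos hr]
      exact PresentedGroup.toGroup.of _
    have hsl : ∀ i : Fin chevE6.rank, chevE7.simple i.val < chevE7.nroots := fun i =>
      hD'.simple_lt (i.isLt.trans_le hrk)
    have e1 := Steinberg.prod_diag hD' (Ψ.comp (R.theta hS TypeE6.model (stGen F)))
      (fun i => chevE7.simple i.val) hsl
      (fun i t => by
        have hp := hD.simple_lt i.isLt
        rw [MonoidHom.comp_apply, R.theta_single, Steinberg.RelSys.hh, Steinberg.RelSys.nn,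
          Steinberg.RelSys.nn]
        simp only [map_mul, hΨy _ hp, hΨy _ (hD.neg_lt hp), hι.neg _ hp, hsimp i.val i.isLt]
        rfl) c (Sum.inr ⟨63, hw⟩)
    rw [MonoidHom.comp_apply, show R.theta hS TypeE6.model (stGen F) c = 1 from hz1, map_one, Units.val_one, Matrix.one_apply_eq] at e1
    refine hx1 (Units.ext ?_)
    rw [Units.val_one, e1]
    congr 1
    simp only [wp, Sum.elim_inr]
    rw [show (∏ i : Fin chevE6.rank, c i ^ chevE7.pairing (chevE7.simple i.val) 63) =
        ∏ i : Fin chevE6.rank, c i ^ chevE7.cartan i.val 63 from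
      Finset.prod_congr rfl fun i _ => by rw [hD'.pairing_simple (i.isLt.trans_le hrk)],
      hsum fun i => chevE7.cartan i 63]
    set d := ((List.range chevE6.rank).map fun i =>
      ((([1, 0, 2, 0, 1, 2] : List ℕ).getD i 0 : ℕ) : ℤ) * chevE7.cartan i 63).sum
    have h0 : (d - 1) % (3 : ℤ) = 0 := Int.emod_eq_emod_iff_emod_sub_eq_zero.1 hc1
    rw [show d = (d - 1) + 1 by ring, zpow_add_one, hxm _ h0, one_mul]

theorem exists_cover (h3 : 3 ∣ q + 1) (hperf : commutator ↥(twistedE6 F q) = ⊤) :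
    ∃ (σ : ↥(lifted F q) →* ↥(twistedE6 F q)), IsStemExtension σ ∧
      Nonempty (σ.ker ≃* Multiplicative (ZMod 3)) := by
  classical
  set R := stR F
  have hmem : ∀ g : ↥(lifted F q), R.π (g : chevE6.SteinbergGroup F) ∈ twistedE6 F q := fun g =>
    map_lifted (F := F) q ▸ Subgroup.mem_map_of_mem _ g.2
  let σ : ↥(lifted F q) →* ↥(twistedE6 F q) :=
    (R.π.comp (lifted F q).subtype).codRestrict _ hmem
  have hσs : Function.Surjective σ := by
    rintro ⟨g, hg⟩
    rw [← map_lifted (F := F) q] at hg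
    obtain ⟨y, hy, rfl⟩ := hg
    exact ⟨⟨y, hy⟩, rfl⟩
  have hker : ∀ g : ↥(lifted F q), g ∈ σ.ker ↔ (g : chevE6.SteinbergGroup F) ∈ R.π.ker := fun g => by
    rw [MonoidHom.mem_ker, MonoidHom.mem_ker]
    exact ⟨fun h => congrArg Subtype.val h, fun h => Subtype.ext h⟩
  have hcen := R.ker_le_center Steinberg.sldE6 TypeE6.model (stGen F)
  have hσc : σ.ker ≤ Subgroup.center ↥(lifted F q) := fun g hg =>
    Subgroup.mem_center_iff.2 fun y =>
      Subtype.ext (Subgroup.mem_center_iff.1 (hcen ((hker g).1 hg)) (y : chevE6.SteinbergGroup F))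
  obtain ⟨hfin, hle⟩ := R.card_ker_le Steinberg.sldE6 TypeE6.model (stGen F) Steinberg.elimE6
    (by norm_num)
  haveI : Finite ↥σ.ker := Finite.of_injective
    (fun g : σ.ker => (⟨_, (hker g.1).1 g.2⟩ : R.π.ker)) fun a b h =>
      Subtype.ext (Subtype.ext (congrArg Subtype.val h :))
  have hle3 : Nat.card σ.ker ≤ 3 := by
    refine le_trans ?_ (hle.trans (Nat.gcd_le_left _ (by norm_num)))
    exact Nat.card_le_card_of_injective (fun g : σ.ker => (⟨_, (hker g.1).1 g.2⟩ : R.π.ker))
      fun a b h => Subtype.ext (Subtype.ext (congrArg Subtype.val h :))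
  -- the element of order three
  obtain ⟨x, hx⟩ := Steinberg.exists_units_orderOf (F := F) (g := 3) (by
    rw [hK]
    refine h3.trans ⟨q - 1, ?_⟩
    zify [hq.pos, Nat.one_le_pow 2 q hq.pos]
    ring)
  have hx3 : x ^ 3 = 1 := hx ▸ pow_orderOf_eq_one x
  have hx1 : x ≠ 1 := fun e => by rw [e, orderOf_one] at hx; omega
  have hxq : (x : F) ^ q = (x : F) ^ 2 := by
    have : x ^ q = x ^ 2 := by
      rw [pow_eq_pow_iff_modEq, hx]
      unfold Nat.ModEq
      omega
    rw [← Units.val_pow_eq_pow_val, this, Units.val_pow_eq_pow_val]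
  obtain ⟨hz1, hz2⟩ := centre_facts (F := F) x hx3 hx1
  set c : Fin chevE6.rank → Fˣ := fun i => x ^ ((([1, 0, 2, 0, 1, 2] : List ℕ).getD i.val 0 : ℕ) : ℤ)
  set θ := R.theta Steinberg.sldE6 TypeE6.model (stGen F) with hθ
  obtain ⟨e0, e2, e4, e5, erk⟩ := simple_idx
  have hzl : θ c ∈ lifted F q := by
    have ec : c = Pi.mulSingle (⟨0, by omega⟩ : Fin chevE6.rank) x *
        Pi.mulSingle (⟨5, by omega⟩ : Fin chevE6.rank) (x ^ 2) *
        (Pi.mulSingle (⟨2, by omega⟩ : Fin chevE6.rank) (x ^ 2) *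
          Pi.mulSingle (⟨4, by omega⟩ : Fin chevE6.rank) x) := by
      funext i
      obtain ⟨i, hi⟩ := i
      have : i < 6 := erk ▸ hi
      interval_cases i <;> simp [c, Pi.mulSingle_apply]
    rw [ec, map_mul, map_mul, map_mul, hθ, R.theta_single, R.theta_single, R.theta_single,
      R.theta_single]
    have hx4 : ((x : F) ^ 2) ^ q = (x : F) := by
      rw [← pow_mul, mul_comm, pow_mul, hxq, ← pow_mul, show 2 * 2 = 3 + 1 from rfl, pow_succ,
        show (x : F) ^ 3 = 1 by rw [← Units.val_pow_eq_pow_val, hx3, Units.val_one], one_mul]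
    refine mul_mem ?_ ?_
    · have := pair_hh_mem hq hK orth16 (x : F)
      rw [hxq] at this
      simpa [e0, e5] using this
    · have := pair_hh_mem hq hK orth35 ((x : F) ^ 2)
      rw [hx4] at this
      simpa [e2, e4] using this
  have hzk : (⟨θ c, hzl⟩ : ↥(lifted F q)) ∈ σ.ker := (hker _).2 hz1
  have hcard : Nat.card σ.ker = 3 := by
    have h1 : ((⟨_, hzk⟩ : σ.ker)) ≠ 1 := fun e =>
      hz2 (congrArg (fun g : σ.ker => ((g : ↥(lifted F q)) : chevE6.SteinbergGroup F)) e)
    have h2 : (⟨_, hzk⟩ : σ.ker) ^ 3 = 1 := by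
      refine Subtype.ext (Subtype.ext ?_)
      show θ c ^ 3 = 1
      rw [← map_pow, show c ^ 3 = 1 from funext fun i => by
        show (x ^ ((([1, 0, 2, 0, 1, 2] : List ℕ).getD i.val 0 : ℕ) : ℤ)) ^ 3 = 1
        rw [zpow_natCast, ← pow_mul, mul_comm, pow_mul, hx3, one_pow], map_one]
    haveI : Fact (Nat.Prime 3) := ⟨by norm_num⟩
    exact le_antisymm hle3 ((orderOf_eq_prime h2 h1).symm.le.trans (orderOf_le_card (G := σ.ker)))
  -- the lift is perfect
  obtain ⟨p, j, hp, hc, hj, hj0⟩ := exists_char_pow hq hK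
  haveI := hc
  have hp3 : p ≠ 3 := by
    rintro rfl
    have h4 : 3 ∣ q := hj ▸ dvd_pow_self 3 hj0.ne'
    omega
  have hcomm : commutator ↥(lifted F q) = ⊤ := by
    have hdec : ∀ y : ↥(lifted F q), ∃ a ∈ commutator ↥(lifted F q), a⁻¹ * y ∈ σ.ker := by
      intro y
      have h1 : (commutator ↥(lifted F q)).map σ = ⊤ := by
        rw [_root_.commutator_def, Subgroup.map_commutator, Subgroup.map_top_of_surjective σ hσs,
          ← _root_.commutator_def, hperf]
      obtain ⟨a, ha, e⟩ : σ y ∈ (commutator ↥(lifted F q)).map σ := by rw [h1]; trivial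
      exact ⟨a, ha, by rw [MonoidHom.mem_ker, map_mul, map_inv, e, inv_mul_cancel]⟩
    rw [eq_top_iff]
    rintro ⟨y, hy⟩ -
    induction hy using Subgroup.closure_induction with
    | mem y hy =>
      obtain ⟨w, hw, rfl⟩ := hy
      set g : ↥(lifted F q) := ⟨wlift F w, _⟩
      have hpw : g ^ p = 1 := by
        have hyp : ∀ r, r < chevE6.nroots → ∀ t : F, R.y r t ^ p = 1 := by
          intro r hr t
          have key : ∀ n : ℕ, R.y r t ^ n = R.y r ((n : F) * t) := by
            intro n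
            induction n with
            | zero => rw [pow_zero, Nat.cast_zero, zero_mul, R.y_zero hr]
            | succ n ih => rw [pow_succ, ih, ← R.y_add _ hr, Nat.cast_succ, add_one_mul]
          rw [key, CharP.cast_eq_zero F p, zero_mul, R.y_zero hr]
        refine Subtype.ext ?_
        show wlift F w ^ p = 1
        rcases hw with ⟨t, -, r, hr, rfl⟩ | ⟨t, rs, hr, rfl⟩
        · simp [wlift, hyp r (word_roots r hr) t, R]
        · obtain ⟨h1, h2, h3, h4⟩ := word_pairs rs hr
          rw [wlift_two, (R.comm0 _ _ h1 h2 h3 h4 t (t ^ q)).mul_pow, hyp _ h1, hyp _ h2, one_mul]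
      obtain ⟨a, ha, hk⟩ := hdec g
      have hz3 : (a⁻¹ * g) ^ 3 = 1 := by
        have := congrArg Subtype.val (pow_card_eq_one' (x := (⟨_, hk⟩ : σ.ker)))
        rwa [hcard] at this
      have hzp : (a⁻¹ * g) ^ p ∈ commutator ↥(lifted F q) := by
        have hcm : Commute g (a⁻¹ * g) := Subgroup.mem_center_iff.1 (hσc hk) g
        have ea : a = g * (a⁻¹ * g)⁻¹ := by group
        have h5 : a ^ p = ((a⁻¹ * g) ^ p)⁻¹ := by
          conv_lhs => rw [ea]
          rw [hcm.inv_right.mul_pow, hpw, one_mul, inv_pow]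
        exact inv_mem_iff.1 (h5 ▸ pow_mem ha p)
      have hco : Nat.gcd p 3 = 1 := (Nat.coprime_primes hp (by norm_num)).2 hp3
      have hz : a⁻¹ * g ∈ commutator ↥(lifted F q) := by
        have hb := Nat.gcd_eq_gcd_ab p 3
        rw [hco] at hb
        have e : a⁻¹ * g = ((a⁻¹ * g) ^ p) ^ Nat.gcdA p 3 := by
          conv_lhs => rw [← zpow_one (a⁻¹ * g), ← Nat.cast_one, hb, zpow_add, zpow_mul, zpow_mul,
            zpow_natCast, zpow_natCast, hz3, one_zpow, mul_one]
        rw [e]
        exact zpow_mem hzp _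
      simpa using mul_mem ha hz
    | one => exact one_mem _
    | mul a b _ _ ha hb => exact mul_mem ha hb
    | inv a _ ha => exact inv_mem ha
  refine ⟨σ, ⟨hσs, hσc, hcomm ▸ le_top⟩, ?_⟩
  haveI : Fact (Nat.Prime 3) := ⟨by norm_num⟩
  haveI : IsCyclic σ.ker := isCyclic_of_prime_card hcard
  exact ⟨(zmodCyclicMulEquiv (inferInstance : IsCyclic σ.ker)).symm.trans
    (by rw [hcard])⟩

end Cfsg.Agent.Twisted.TypeE6
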