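import Cfsg.Agent.KnownSimple.Multiplier.E6T.Local
import Cfsg.Agent.KnownSimple.Multiplier.RankSetup
import Cfsg.Agent.Lib.ChevCore.GoodAll
import Cfsg.Agent.Lib.ChevCore.RankOneHom

/-!
The rank one subgroups of `²E₆(q)` as images of `SL_2(q)` and `SL_2(q²)`.
-/

set_option autoImplicit false
set_option linter.unusedSectionVars false

namespace Cfsg.Agent.Twisted.TypeE6

open ChevGroup ChevIsogeny Cfsg.Lie
open Cfsg.Agent.ChevCore (slU slL pn ph PairRel exists_sl_hom sl_generated)

universe w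

variable {F : Type w} [Field F] [Fintype F] {q : ℕ} {K : Rels chevE6 F}
  (Z : Frame (T := MT) K PP q fd)
  (hq : IsPrimePow q) (hK : Fintype.card F = q ^ 2)

set_option quotPrecheck false in
local notation "G₁" => genG MT K (e6Words F q)

theorem root_pairRel (r : Fin MT.tab.n) :
    PairRel (fun t : F => (MT.rel K).x r t) (fun t : F => (MT.rel K).x ((MT.S).neg r) t) := by
  have hG : ChevCore.Good chevE6 := ChevCore.good_of_mem (by simp)
  have P := hG.pairRel_root (F := F) (MT.lt r)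
  have e : ∀ (s : Fin MT.tab.n) (t : F), (((MT.rel K).x s t : ↥(chevE6.group F)) : GL chevE6.Idx F) =
      ChevCore.xg chevE6 F s.val t := fun s t => Units.ext (by rw [hG.val_xg]; rfl)
  have en : ((MT.S).neg r).val = chevE6.neg r.val := MT.neg_eq r
  refine ⟨fun a b => Subtype.ext ?_, fun a b => Subtype.ext ?_, fun a b ha hb => Subtype.ext ?_,
    fun a t ha => Subtype.ext ?_, fun a t ha => Subtype.ext ?_, fun t => Subtype.ext ?_⟩
  · simpa [e, en] using P.x_add a b
  · simpa [e, en] using P.y_add a b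
  · simpa [ph, pn, e, en] using P.h_mul a b ha hb
  · simpa [ph, pn, e, en] using P.h_x a t ha
  · simpa [ph, pn, e, en] using P.h_y a t ha
  · simpa [ph, pn, e, en] using P.n_x t

/-- the homomorphism of a root -/
noncomputable def rootHom (r : Fin MT.tab.n) :
    Matrix.SpecialLinearGroup (Fin 2) F →* ↥(chevE6.group F) :=
  (exists_sl_hom (root_pairRel (K := K) r)).choose

theorem rootHom_U (r : Fin MT.tab.n) (t : F) : rootHom (K := K) r (slU t) = (MT.rel K).x r t :=
  (exists_sl_hom (root_pairRel (K := K) r)).choose_spec.1 t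

theorem rootHom_L (r : Fin MT.tab.n) (t : F) :
    rootHom (K := K) r (slL t) = (MT.rel K).x ((MT.S).neg r) t :=
  (exists_sl_hom (root_pairRel (K := K) r)).choose_spec.2.1 t

theorem rootHom_pn (r : Fin MT.tab.n) (a : F) :
    rootHom (K := K) r (pn slU slL a) = (MT.rel K).nr r a := by
  rw [pn, map_mul, map_mul, rootHom_U, rootHom_L]; rfl

theorem rootHom_ph (r : Fin MT.tab.n) (a : F) :
    rootHom (K := K) r (ph slU slL a) = (MT.rel K).hr r a := by
  rw [ph, map_mul, rootHom_pn, rootHom_pn]; rfl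

theorem map_slU {E : Type*} [Field E] (f : E →+* F) (t : E) :
    Matrix.SpecialLinearGroup.map f (slU t) = slU (f t) ∧
      Matrix.SpecialLinearGroup.map f (slL t) = slL (f t) := by
  constructor <;> ext i j <;> fin_cases i <;> fin_cases j <;>
    simp [ChevCore.coe_slU, ChevCore.coe_slL, Matrix.SpecialLinearGroup.map_apply_coe]

theorem map_pn {E : Type*} [Field E] (f : E →+* F) (a : E) :
    Matrix.SpecialLinearGroup.map f (pn slU slL a) = pn slU slL (f a) ∧
      Matrix.SpecialLinearGroup.map f (ph slU slL a) = ph slU slL (f a) := by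
  have h : ∀ a : E, Matrix.SpecialLinearGroup.map f (pn slU slL a) = pn slU slL (f a) := fun a => by
    rw [pn, map_mul, map_mul, (map_slU f _).1, (map_slU f _).2, map_neg, map_inv₀]; rfl
  exact ⟨h a, by rw [ph, map_mul, h, h, map_neg, map_one]; rfl⟩

include hq hK

/-- the field with `q` elements -/
def Fq : Subfield F where
  carrier := {t | t ^ q = t}
  mul_mem' {a b} ha hb := by show (a * b) ^ q = a * b; rw [mul_pow, ha, hb]
  one_mem' := one_pow q
  add_mem' {a b} ha hb := by
    show (a + b) ^ q = a + b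
    rw [(qpow_hom hq hK).1, show a ^ q = a from ha, show b ^ q = b from hb]
  zero_mem' := zero_pow hq.pos.ne'
  neg_mem' {a} ha := by show (-a) ^ q = -a; rw [qpow_neg hq hK, show a ^ q = a from ha]
  inv_mem' a ha := by show (a⁻¹) ^ q = a⁻¹; rw [inv_pow, show a ^ q = a from ha]

/-- the Frobenius powers -/
def frob : F →+* F where
  toFun a := a ^ q
  map_one' := one_pow q
  map_mul' a b := mul_pow a b q
  map_zero' := zero_pow hq.pos.ne'
  map_add' := (qpow_hom hq hK).1

include Z

theorem rootHom_commute {r s : Fin MT.tab.n}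
    (h1 : PP.commuteB chevE6 r.val s.val = true)
    (h2 : PP.commuteB chevE6 r.val ((MT.S).neg s).val = true)
    (h3 : PP.commuteB chevE6 ((MT.S).neg r).val s.val = true)
    (h4 : PP.commuteB chevE6 ((MT.S).neg r).val ((MT.S).neg s).val = true)
    (g g' : Matrix.SpecialLinearGroup (Fin 2) F) :
    Commute (rootHom (K := K) r g) (rootHom (K := K) s g') := by
  have gen : ∀ (u : Fin MT.tab.n) (y : Matrix.SpecialLinearGroup (Fin 2) F) (z : ↥(chevE6.group F)),
      (∀ t, Commute ((MT.rel K).x u t) z) → (∀ t, Commute ((MT.rel K).x ((MT.S).neg u) t) z) →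
      Commute (rootHom (K := K) u y) z := by
    intro u y z hz hz'
    induction sl_generated y using Subgroup.closure_induction with
    | mem y hy =>
      rcases hy with ⟨t, rfl⟩ | ⟨t, rfl⟩
      · rw [rootHom_U]; exact hz t
      · rw [rootHom_L]; exact hz' t
    | one => rw [map_one]; exact Commute.one_left z
    | mul a b _ _ ha hb => rw [map_mul]; exact ha.mul_left hb
    | inv a _ ha => rw [map_inv]; exact ha.inv_left
  refine gen r g _ (fun t => ?_) (fun t => ?_) <;> refine (gen s g' _ (fun u => ?_) (fun u => ?_)).symm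
  · exact (Z.commute_x h1 t u).symm
  · exact (Z.commute_x h2 t u).symm
  · exact (Z.commute_x h3 t u).symm
  · exact (Z.commute_x h4 t u).symm

theorem orth_commute {a b : Fin MT.tab.n} (hok : pairOrthB PP MT [a, b] = true) (hne : a ≠ b)
    (g g' : Matrix.SpecialLinearGroup (Fin 2) F) :
    Commute (rootHom (K := K) a g) (rootHom (K := K) b g') := by
  simp only [pairOrthB, Bool.and_eq_true, decide_eq_true_eq, List.all_eq_true, Bool.or_eq_true] at hok
  obtain ⟨⟨⟨h1, h2⟩, h3⟩, h4⟩ := (hok.2 a (by simp) b (by simp)).resolve_left hne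
  exact rootHom_commute Z hq hK h1 h2 h3 h4 g g'

/-- `SL_2(q²)` inside `²E₆(q)`, along a pair of orthogonal roots -/
noncomputable def pairHom (p : Fin MT.tab.n × Fin MT.tab.n)
    (hok : pairOrthB PP MT [p.1, p.2] = true) (hne : p.1 ≠ p.2) :
    Matrix.SpecialLinearGroup (Fin 2) F →* ↥(chevE6.group F) :=
  let f := frob hq hK
  MonoidHom.mk'
    (fun g => rootHom (K := K) p.1 g * rootHom (K := K) p.2 (Matrix.SpecialLinearGroup.map f g))
    (fun g g' => by
      simp only [map_mul]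
      set a := rootHom (K := K) p.1 g
      set a' := rootHom (K := K) p.1 g' with ha'
      set b := rootHom (K := K) p.2 (Matrix.SpecialLinearGroup.map f g) with hb
      set b' := rootHom (K := K) p.2 (Matrix.SpecialLinearGroup.map f g')
      have c : Commute a' b := ha' ▸ hb ▸ orth_commute Z hq hK hok hne g' (Matrix.SpecialLinearGroup.map f g)
      calc a * a' * (b * b') = a * (a' * b) * b' := by group
        _ = a * (b * a') * b' := by rw [c.eq]
        _ = a * b * (a' * b') := by group)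

theorem pairHom_apply (p : Fin MT.tab.n × Fin MT.tab.n) (hok : pairOrthB PP MT [p.1, p.2] = true)
    (hne : p.1 ≠ p.2) (g : Matrix.SpecialLinearGroup (Fin 2) F) : pairHom Z hq hK p hok hne g =
      rootHom (K := K) p.1 g * rootHom (K := K) p.2 (Matrix.SpecialLinearGroup.map (frob hq hK) g) :=
  rfl

/-- `SL_2(q)` inside `²E₆(q)`, along a fixed root -/
noncomputable def oneHom (r : Fin MT.tab.n) :
    Matrix.SpecialLinearGroup (Fin 2) (Fq hq hK (F := F)) →* ↥(chevE6.group F) :=
  (rootHom (K := K) r).comp (Matrix.SpecialLinearGroup.map (Fq hq hK (F := F)).subtype)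

theorem oneHom_U (r : Fin MT.tab.n) (t : Fq hq hK (F := F)) :
    oneHom (K := K) hq hK r (slU t) = (MT.rel K).x r (t : F) ∧
      oneHom (K := K) hq hK r (slL t) = (MT.rel K).x ((MT.S).neg r) (t : F) := by
  rw [oneHom, MonoidHom.comp_apply, MonoidHom.comp_apply, (map_slU _ _).1, (map_slU _ _).2, rootHom_U,
    rootHom_L]
  exact ⟨rfl, rfl⟩

theorem oneHom_torus {j : Fin MT.tab.l} {r : Fin MT.tab.n} (hr : (MT.S).simple j = r) (a : Fˣ)
    (ha : (a : F) ^ q = a) :
    oneHom (K := K) hq hK r (ph slU slL (⟨(a : F), ha⟩ : Fq hq hK (F := F))) =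
      tor MT K (Pi.mulSingle j a) := by
  rw [oneHom, MonoidHom.comp_apply, (map_pn _ _).2, rootHom_ph, ← hr]
  exact Z.hr_simple_eq_tor j a

theorem pairHom_torus {i j : Fin MT.tab.l} {p : Fin MT.tab.n × Fin MT.tab.n}
    (hok : pairOrthB PP MT [p.1, p.2] = true) (hne : p.1 ≠ p.2)
    (hi : (MT.S).simple i = p.1) (hj : (MT.S).simple j = p.2) (a : Fˣ) :
    pairHom Z hq hK p hok hne (ph slU slL (a : F)) =
      tor MT K (Pi.mulSingle i a * Pi.mulSingle j (a ^ q)) := by
  rw [pairHom_apply, (map_pn _ _).2, rootHom_ph, rootHom_ph, Z.tor_mul, ← Z.hr_simple_eq_tor i a,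
    ← Z.hr_simple_eq_tor j (a ^ q), hi, hj, Units.val_pow_eq_pow_val]
  rfl

theorem single_cvec (a : Fˣ) :
    Pi.mulSingle (1 : Fin MT.tab.l) a = cvec q 1 a 1 1 ∧
      Pi.mulSingle (3 : Fin MT.tab.l) a = cvec q 1 1 1 a ∧
      Pi.mulSingle (2 : Fin MT.tab.l) a * Pi.mulSingle (4 : Fin MT.tab.l) (a ^ q) = cvec q 1 1 a 1 ∧
      Pi.mulSingle (0 : Fin MT.tab.l) a * Pi.mulSingle (5 : Fin MT.tab.l) (a ^ q) = cvec q a 1 1 1 := by
  have h := fun (b c d e : Fˣ) => cvec_val q b c d e
  refine ⟨?_, ?_, ?_, ?_⟩ <;> funext j <;>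
    match j with
    | 0 => simp [(h _ _ _ _).1, Pi.mulSingle_apply, show MT.tab.l = 6 from rfl]
    | 1 => simp [(h _ _ _ _).2.1, Pi.mulSingle_apply, show MT.tab.l = 6 from rfl]
    | 2 => simp [(h _ _ _ _).2.2.1, Pi.mulSingle_apply, show MT.tab.l = 6 from rfl]
    | 3 => simp [(h _ _ _ _).2.2.2.1, Pi.mulSingle_apply, show MT.tab.l = 6 from rfl]
    | 4 => simp [(h _ _ _ _).2.2.2.2.1, Pi.mulSingle_apply, show MT.tab.l = 6 from rfl]
    | 5 => simp [(h _ _ _ _).2.2.2.2.2, Pi.mulSingle_apply, show MT.tab.l = 6 from rfl]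

theorem isLevi_one {j : Fin MT.tab.l} {r : Fin MT.tab.n} {k : Fin 4} (hr : r ∈ ones)
    (hs : (MT.S).neg r ∈ ones) (hj : (MT.S).simple j = r) (hk : fd.O.cls k = [r])
    (hsub : [r].Sublist MT.posList) (ho : fd.orth k = [r]) (hnJ : Z.nJ k = ((fd.orth k).map fun a => (MT.rel K).nr a (1 : F)).prod)
    (hinj : ∀ a : Fˣ, a ^ q = a → tor MT K (Pi.mulSingle j a) = 1 → a = 1) :
    (gens Z hq hK).data.IsLevi k (oneHom (K := K) hq hK r) where
  upper_mem t := by
    rw [(oneHom_U Z hq hK r t).1]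
    exact one_mem_X Z hq hK hr (by rw [hk]; simp) t.2
  upper_onto a ha := by
    have hg : a ∈ Sg (MT.rel K) (· ∈ fd.O.cls k) := ha.2
    rw [hk] at hg
    obtain ⟨t, ht, rfl⟩ := cls_one Z hr hsub hg ((gens Z hq hK).fixed a ha.1)
    exact ⟨⟨t, ht⟩, (oneHom_U Z hq hK r _).1⟩
  upper_inj t h := by
    rw [(oneHom_U Z hq hK r t).1] at h
    exact Subtype.ext (MT.x_ne K r _ h)
  lower_mem t := by
    rw [(oneHom_U Z hq hK r t).2]
    refine ⟨one_mem_G Z hs t.2, ?_⟩
    exact x_mem_Sg (MT.rel K) (T := fun u => (MT.S).neg u ∈ fd.O.cls k) (r := (MT.S).neg r)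
      (by rw [(MT.S).neg_neg, hk]; simp) _
  weyl := by
    rw [oneHom, MonoidHom.comp_apply, (map_pn _ _).1, rootHom_pn, map_one]
    show _ = Z.nJ k
    rw [hnJ, ho]
    simp
  torus a ha := by
    exact (oneHom_torus Z hq hK hj (Units.mk0 (a : F) (fun e => ha (Subtype.ext e))) a.2).symm ▸
      Z.tor_mem_H _
  torus_inj a ha h := by
    have h' : tor MT K (Pi.mulSingle j (Units.mk0 (a : F) (fun e => ha (Subtype.ext e)))) = 1 :=
      (oneHom_torus Z hq hK hj (Units.mk0 (a : F) (fun e => ha (Subtype.ext e))) a.2).symm.trans h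
    exact Subtype.ext (congrArg Units.val (hinj _ (Units.ext (by
      rw [Units.val_pow_eq_pow_val]; exact a.2)) h'))

theorem pairHom_U (p : Fin MT.tab.n × Fin MT.tab.n) (hok : pairOrthB PP MT [p.1, p.2] = true)
    (hne : p.1 ≠ p.2) (t : F) :
    pairHom Z hq hK p hok hne (slU t) = prodX MT K [p.1, p.2] (duo q p.1 t) ∧
      pairHom Z hq hK p hok hne (slL t) =
        prodX MT K [(MT.S).neg p.1, (MT.S).neg p.2] (duo q ((MT.S).neg p.1) t) := by
  have hne' : (MT.S).neg p.2 ≠ (MT.S).neg p.1 := fun e => hne (by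
    have := congrArg (MT.S).neg e
    rw [(MT.S).neg_neg, (MT.S).neg_neg] at this
    exact this.symm)
  rw [pairHom_apply, pairHom_apply, (map_slU _ _).1, (map_slU _ _).2, rootHom_U, rootHom_U,
    rootHom_L, rootHom_L]
  constructor <;> simp [prodX, duo, frob, hne.symm, hne']

theorem isLevi_pair {i j : Fin MT.tab.l} {p : Fin MT.tab.n × Fin MT.tab.n} {k : Fin 4}
    (hok : pairOrthB PP MT [p.1, p.2] = true) (hne : p.1 ≠ p.2) (hp : p ∈ pairs)
    (hn : ((MT.S).neg p.1, (MT.S).neg p.2) ∈ pairs)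
    (hi : (MT.S).simple i = p.1) (hj : (MT.S).simple j = p.2) (hk : fd.O.cls k = [p.1, p.2])
    (hsub : [p.2, p.1].Sublist MT.posList) (ho : fd.orth k = [p.2, p.1])
    (hnJ : Z.nJ k = ((fd.orth k).map fun a => (MT.rel K).nr a (1 : F)).prod)
    (hinj : ∀ a : Fˣ, tor MT K (Pi.mulSingle i a * Pi.mulSingle j (a ^ q)) = 1 → a = 1) :
    (gens Z hq hK).data.IsLevi k (pairHom Z hq hK p hok hne) where
  upper_mem t := by
    rw [(pairHom_U Z hq hK p hok hne t).1]
    exact pair_mem_X Z hq hK hp (by rw [hk]; simp) (by rw [hk]; simp) t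
  upper_onto a ha := by
    have hg : a ∈ Sg (MT.rel K) (· ∈ fd.O.cls k) := ha.2
    rw [hk] at hg
    obtain ⟨t, rfl⟩ := cls_pair Z hp hsub hg ((gens Z hq hK).fixed a ha.1)
    exact ⟨t, (pairHom_U Z hq hK p hok hne t).1⟩
  upper_inj t h := by
    rw [(pairHom_U Z hq hK p hok hne t).1, Z.prodX_perm (List.Perm.swap p.2 p.1 [])
      (list_ok Z _ (List.mem_append_right _ (List.mem_flatMap.2 ⟨p, hp, by simp⟩)))] at h
    have h0 : prodX MT K [p.2, p.1] (duo q p.1 t) = prodX MT K [p.2, p.1] (fun _ => (0 : F)) := by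
      rw [h]; simp [prodX, RootRel.x_zero]
    have := Z.prodX_inj hsub h0 p.1 (by simp)
    simpa [duo] using this
  lower_mem t := by
    rw [(pairHom_U Z hq hK p hok hne t).2]
    refine ⟨pair_mem_G Z hn t, Z.Sg_mem_prodX (fun r hr => ?_) _⟩
    show (MT.S).neg r ∈ fd.O.cls k
    rw [hk]
    simp only [List.mem_cons, List.not_mem_nil, or_false] at hr ⊢
    rcases hr with rfl | rfl <;> simp [(MT.S).neg_neg]
  weyl := by
    rw [pairHom_apply, (map_pn _ _).1, rootHom_pn, rootHom_pn, map_one]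
    show _ = Z.nJ k
    rw [hnJ, ho]
    simp only [List.map_cons, List.map_nil, List.prod_cons, List.prod_nil, mul_one]
    rw [← rootHom_pn p.1 (1 : F), ← rootHom_pn p.2 (1 : F)]
    exact (orth_commute Z hq hK hok hne _ _).eq
  torus a ha := by
    rw [show a = ((Units.mk0 a ha : Fˣ) : F) from rfl, pairHom_torus Z hq hK hok hne hi hj]
    exact Z.tor_mem_H _
  torus_inj a ha h := by
    rw [show a = ((Units.mk0 a ha : Fˣ) : F) from rfl, pairHom_torus Z hq hK hok hne hi hj] at h
    exact congrArg Units.val (hinj _ h)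

theorem isLevi0 : (gens Z hq hK).data.IsLevi 0 (oneHom (K := K) hq hK 46) :=
  isLevi_one Z hq hK (j := 1) (by decide) (by decide +kernel) (Fin.ext rfl) rfl (by decide +kernel) rfl
    (Z.nJ_eq 0 (by decide +kernel)) fun a ha h => by
      rw [(single_cvec Z hq hK a).1] at h
      exact congrFun (ker_fixed Z (sig_cvec Z hq hK 1 a 1 1 ha (one_pow q)) h).1 1

theorem isLevi1 : (gens Z hq hK).data.IsLevi 1 (oneHom (K := K) hq hK 39) :=
  isLevi_one Z hq hK (j := 3) (by decide) (by decide +kernel) (Fin.ext rfl) rfl (by decide +kernel) rfl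
    (Z.nJ_eq 1 (by decide +kernel)) fun a ha h => by
      rw [(single_cvec Z hq hK a).2.1] at h
      exact congrFun (ker_fixed Z (sig_cvec Z hq hK 1 1 1 a (one_pow q) ha) h).1 3

theorem isLevi2 : (gens Z hq hK).data.IsLevi 2
    (pairHom Z hq hK (42, 37) pair_ok.2.2.1 (by decide)) :=
  isLevi_pair Z hq hK (i := 2) (j := 4) _ _ (by decide) (by decide +kernel) (Fin.ext rfl) (Fin.ext rfl)
    rfl (by decide +kernel) rfl (Z.nJ_eq 2 (by decide +kernel)) fun a h => by
      rw [(single_cvec Z hq hK a).2.2.1] at h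
      have := congrFun (ker_fixed Z (sig_cvec Z hq hK 1 1 a 1 (one_pow q) (one_pow q)) h).1 2
      exact this.trans (one_pow 2)

theorem isLevi3 : (gens Z hq hK).data.IsLevi 3
    (pairHom Z hq hK (56, 36) pair_ok.2.2.2 (by decide)) :=
  isLevi_pair Z hq hK (i := 0) (j := 5) _ _ (by decide) (by decide +kernel) (Fin.ext rfl) (Fin.ext rfl)
    rfl (by decide +kernel) rfl (Z.nJ_eq 3 (by decide +kernel)) fun a h => by
      rw [(single_cvec Z hq hK a).2.2.2] at h
      obtain ⟨h1, h2⟩ := ker_fixed Z (sig_cvec Z hq hK a 1 1 1 (one_pow q) (one_pow q)) h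
      have h4 : (1 : Fˣ) = a ^ 2 := congrFun h1 2
      have h3 : a ^ 3 = 1 := (pow_gcd_eq_one.1 h2).1
      rwa [pow_succ, ← h4, one_mul] at h3

end Cfsg.Agent.Twisted.TypeE6
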