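import Cfsg.Agent.KnownSimple.Multiplier.E6T.Weights
import Cfsg.Agent.KnownSimple.Multiplier.Pairing

/-!
The condition at the characteristic for the Schur multiplier of `²E₆(q)`, `q ≥ 3`.
-/

set_option autoImplicit false
set_option linter.unusedSectionVars false

namespace Cfsg.Agent.Twisted.TypeE6

open ChevGroup ChevIsogeny Cfsg.Lie
open scoped commutatorElement

universe u w

variable {F : Type w} [Field F] [Fintype F] {q : ℕ} {K : Rels chevE6 F}
  (Z : Frame (T := MT) K PP q fd)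
  (hq : IsPrimePow q) (hK : Fintype.card F = q ^ 2)

set_option quotPrecheck false in
local notation "G₁" => genG MT K (e6Words F q)

/-- the unipotent subgroup -/
abbrev UF : Subgroup ↥G₁ := FlF 24

theorem FlF_zero : (FlF 0 : Subgroup ↥G₁) = ⊥ := by
  refine (Subgroup.eq_bot_iff_forall _).2 fun g hg => ?_
  have h : (g : ↥(chevE6.group F)) ∈ Sg (MT.rel K) (· ∈ lev 0) := hg
  have : Sg (MT.rel K) (fun r => r ∈ lev 0) = ⊥ := Subgroup.closure_eq_bot_iff.2 (by
    rintro y ⟨r, t, hr, -⟩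
    exact absurd hr (List.not_mem_nil))
  rw [this, Subgroup.mem_bot] at h
  exact Subtype.ext h

theorem FlF_mono {i : ℕ} (hi : i < 24) : (FlF i : Subgroup ↥G₁) ≤ FlF (i + 1) := fun g hg =>
  Sg_mono (MT.rel K) (T := (· ∈ lev i)) (fun r hr => lev_succ ⟨i, hi⟩ r hr) hg

theorem FlF_le {i : ℕ} (hi : i ≤ 24) : (FlF i : Subgroup ↥G₁) ≤ UF := by
  obtain ⟨k, hk⟩ := Nat.exists_eq_add_of_le hi
  induction k generalizing i with
  | zero => rw [show i = 24 by omega]
  | succ k ih => exact (FlF_mono (by omega)).trans (ih (by omega) (by omega))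

include Z hq hK

theorem FlF_central (i : Fin 24) {g u : ↥G₁} (hg : g ∈ FlF (i.val + 1)) (hu : u ∈ UF) :
    ⁅g, u⁆ ∈ FlF i.val := by
  have hu' : (u : ↥(chevE6.group F)) ∈ (MT.rel K).U :=
    Sg_mono (MT.rel K) (T := (· ∈ lev 24)) (fun r hr => mem_pl.1 ((lev_top r).1 hr))
      (Subgroup.mem_subgroupOf.1 hu)
  exact Z.level_central (lev_ok i) hu' (Subgroup.mem_subgroupOf.1 hg)

theorem eF_mem (i : Fin 24) (t : F) : eF Z hq hK i t ∈ FlF (i.val + 1) := by
  by_cases ht : t ∈ Vf hq hK i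
  · refine Subgroup.mem_subgroupOf.2 ?_
    rw [eF_coe Z hq hK i ht]
    refine Subgroup.list_prod_mem _ fun y hy => ?_
    obtain ⟨r, hr, rfl⟩ := List.mem_map.1 hy
    refine x_mem_Sg _ (T := (· ∈ lev (i.val + 1))) ?_ _
    rw [← fac_eq i] at hr
    exact List.mem_of_mem_filter hr
  · rw [eF, dif_neg ht]
    exact one_mem _

omit Z in
/-- the trace onto the small field is onto -/
theorem trace_onto {y : F} (hy : y ^ q = y) : ∃ t : F, t + t ^ q = y := by
  obtain ⟨g, hg⟩ := exists_gen hq hK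
  have hne : (g : F) + (g : F) ^ q ≠ 0 := fun e => by
    have h2 : (g ^ (q - 1)) ^ 2 = 1 := by
      refine Units.ext ?_
      have e1 : ((g ^ (q - 1) : Fˣ) : F) * g = -1 * g := by
        rw [Units.val_pow_eq_pow_val, ← pow_succ, Nat.sub_add_cancel hq.pos, neg_one_mul]
        exact eq_neg_of_add_eq_zero_right e
      rw [Units.val_pow_eq_pow_val, mul_right_cancel₀ g.ne_zero e1, neg_one_sq, Units.val_one]
    rw [← pow_mul] at h2
    have h3 := Nat.le_of_dvd (by have := hq.two_le; omega) (hg ▸ orderOf_dvd_of_pow_eq_one h2)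
    have h4 : 2 * q ≤ q ^ 2 := by rw [pow_two]; exact Nat.mul_le_mul_right q hq.two_le
    have := hq.two_le
    omega
  set m := (g : F) + (g : F) ^ q with hm
  have hmq : m ^ q = m := by
    rw [hm, (qpow_hom hq hK).1, qpow_qpow hq hK, add_comm]
  refine ⟨y / m * g, ?_⟩
  rw [mul_pow, div_pow, hy, hmq, ← mul_add, div_mul_cancel₀ _ hne]

omit Z hq hK in
theorem comm_two {G : Type*} [Group G] {a b c d z₁ z₂ : G} (hac : Commute a c) (hbd : Commute b d)
    (h1 : b * c * b⁻¹ = c * z₁) (h2 : a * d * a⁻¹ = d * z₂) (ha1 : Commute a z₁)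
    (hd1 : Commute d z₁) (hc1 : Commute c z₁) (hc2 : Commute c z₂) (hd2 : Commute d z₂) :
    ⁅a * b, c * d⁆ = z₁ * z₂ := by
  have hb : b * (c * d) * b⁻¹ = c * z₁ * d := by
    calc b * (c * d) * b⁻¹ = (b * c * b⁻¹) * (b * d * b⁻¹) := by group
      _ = c * z₁ * d := by rw [h1, hbd.eq, mul_inv_cancel_right]
  have hab : a * b * (c * d) * (a * b)⁻¹ = c * z₁ * (d * z₂) := by
    calc a * b * (c * d) * (a * b)⁻¹ = a * (b * (c * d) * b⁻¹) * a⁻¹ := by group
      _ = (a * c * a⁻¹) * (a * z₁ * a⁻¹) * (a * d * a⁻¹) := by rw [hb]; group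
      _ = c * z₁ * (d * z₂) := by rw [hac.eq, mul_inv_cancel_right, ha1.eq, mul_inv_cancel_right, h2]
  calc ⁅a * b, c * d⁆ = (a * b * (c * d) * (a * b)⁻¹) * d⁻¹ * c⁻¹ := by
        rw [commutatorElement_def]; group
    _ = c * z₁ * (d * z₂ * d⁻¹) * c⁻¹ := by rw [hab]; group
    _ = c * (z₁ * z₂) * c⁻¹ := by rw [hd2.eq, mul_inv_cancel_right]; group
    _ = z₁ * z₂ := by rw [(hc1.mul_right hc2).eq, mul_inv_cancel_right]

omit hq hK in
theorem commute_ok {a b : Fin MT.tab.n} (h : PP.commuteB chevE6 a.val b.val = true) (x y : F) :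
    Commute ((MT.rel K).x a x) ((MT.rel K).x b y) := Z.commute_x h x y

theorem conj_top {a b : Fin MT.tab.n} (h1 : b.val ≠ a.val) (h2 : b.val ≠ chevE6.neg a.val)
    (h : chevE6.commTerms a.val b.val = [((71 : Fin MT.tab.n).val, 1, 1, 1)]) (t u : F) :
    (MT.rel K).x a t * (MT.rel K).x b u * ((MT.rel K).x a t)⁻¹ =
      (MT.rel K).x b u * (MT.rel K).x 71 (t * u) := by
  have h3 := IsoHyp.conj_eq (T := MT) (K := K) Z.iso.comm (MT.lt a) (MT.lt b) h1 h2 t u
  simp only [IsoHyp.xN_val, h, List.map_cons, List.map_nil,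
    List.prod_cons, List.prod_nil, mul_one, IsoHyp.val, pow_one, Int.cast_one, one_mul] at h3
  rw [← (MT.rel K).x_neg]
  exact h3

/-- an element of the root subgroup of the highest root with a fixed parameter is a commutator of
elements that it centralises -/
theorem top_commutator {y : F} (hy : y ^ q = y) : ∃ X Y : ↥G₁,
    ((⁅X, Y⁆ : ↥G₁) : ↥(chevE6.group F)) = (MT.rel K).x 71 y ∧
    (∀ u : F, Commute ((MT.rel K).x 71 u) (X : ↥(chevE6.group F))) ∧
    ∀ u : F, Commute ((MT.rel K).x 71 u) (Y : ↥(chevE6.group F)) := by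
  obtain ⟨t, ht⟩ := trace_onto hq hK hy
  have hA := mem_Vf_big hq hK (i := 14) (by decide +kernel) t
  have hB := mem_Vf_big hq hK (i := 3) (by decide +kernel) (1 : F)
  have eA : (eF Z hq hK 14 t : ↥(chevE6.group F)) = (MT.rel K).x 48 t * (MT.rel K).x 50 (t ^ q) := by
    rw [eF_coe Z hq hK 14 hA, show fac 14 = [48, 50] from rfl]
    have e1 : (PP.ef (rep 14).val : F) = 1 := by
      rw [show PP.ef (rep 14).val = 1 by decide +kernel, Int.cast_one]
    simp only [prodX, co, e1]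
    simp [show rep 14 = 48 from rfl]
  have eB : (eF Z hq hK 3 1 : ↥(chevE6.group F)) = (MT.rel K).x 66 1 * (MT.rel K).x 68 1 := by
    rw [eF_coe Z hq hK 3 hB, show fac 3 = [66, 68] from rfl]
    have e1 : (PP.ef (rep 3).val : F) = 1 := by
      rw [show PP.ef (rep 3).val = 1 by decide +kernel, Int.cast_one]
    simp only [prodX, co, e1]
    simp [show rep 3 = 66 from rfl]
  have c : ∀ a b : Fin MT.tab.n, (a, b) ∈ ([(48, 66), (50, 68), (48, 71), (50, 71), (66, 71), (68, 71),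
      (71, 48), (71, 50), (71, 66), (71, 68)] : List (Fin MT.tab.n × Fin MT.tab.n)) →
      PP.commuteB chevE6 a.val b.val = true := by decide +kernel
  refine ⟨eF Z hq hK 14 t, eF Z hq hK 3 1, ?_, fun u => ?_, fun u => ?_⟩
  · rw [show ((⁅eF Z hq hK 14 t, eF Z hq hK 3 1⁆ : ↥G₁) : ↥(chevE6.group F)) =
      ⁅(eF Z hq hK 14 t : ↥(chevE6.group F)), (eF Z hq hK 3 1 : ↥(chevE6.group F))⁆ from rfl,
      eA, eB, comm_two (commute_ok Z (c 48 66 (by decide)) t 1)
        (commute_ok Z (c 50 68 (by decide)) (t ^ q) 1)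
        (conj_top Z hq hK (a := 50) (b := 66) (by decide) (by decide +kernel) (by decide +kernel) _ _)
        (conj_top Z hq hK (a := 48) (b := 68) (by decide) (by decide +kernel) (by decide +kernel) _ _)
        (commute_ok Z (c 48 71 (by decide)) _ _) (commute_ok Z (c 68 71 (by decide)) _ _)
        (commute_ok Z (c 66 71 (by decide)) _ _) (commute_ok Z (c 66 71 (by decide)) _ _)
        (commute_ok Z (c 68 71 (by decide)) _ _), ← (MT.rel K).x_add, mul_one, mul_one, add_comm, ht]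
  · rw [eA]
    exact (commute_ok Z (c 71 48 (by decide)) _ _).mul_right (commute_ok Z (c 71 50 (by decide)) _ _)
  · rw [eB]
    exact (commute_ok Z (c 71 66 (by decide)) _ _).mul_right (commute_ok Z (c 71 68 (by decide)) _ _)

theorem x_of_eF {i : Fin 24} (hi : small i) {t : F} (ht : t ∈ Vf hq hK i) :
    (eF Z hq hK i t : ↥(chevE6.group F)) = (MT.rel K).x (rep i) t := by
  rw [eF_coe Z hq hK i ht, ((ef_rep i).2 hi).2]
  simp [prodX, co_rep]

variable {Γ : Type u} [Group Γ] [Finite Γ]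

theorem long_comm (σ : Γ →* ↥G₁) (hσ : Function.Surjective σ) (hc : σ.ker ≤ Subgroup.center Γ)
    {i : Fin 24} (hi : small i) (a b : Γ) {v w : F} (hv : v ∈ Vf hq hK i) (hw : w ∈ Vf hq hK i)
    (ha : σ a = eF Z hq hK i v) (hb : σ b = eF Z hq hK i w) : ⁅a, b⁆ = 1 := by
  let P : ↥G₁ → Prop := fun g => ∃ t : F, t ^ q = t ∧ (g : ↥(chevE6.group F)) = (MT.rel K).x 71 t
  have base : ∀ a b : Γ, P (σ a) → P (σ b) → ⁅a, b⁆ = 1 := by
    rintro a b ⟨t, ht, eat⟩ ⟨u, hu, ebu⟩
    obtain ⟨X, Y, hXY, hX, hY⟩ := top_commutator Z hq hK ht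
    refine KnownSimple.Pairing.comm_of_commutator hσ hc (x := X) (y := Y) (Subtype.ext (eat.trans hXY.symm)) ?_ ?_
    · refine Subtype.ext ?_
      show (σ b : ↥(chevE6.group F)) * X = X * (σ b : ↥(chevE6.group F))
      rw [ebu]; exact (hX u).eq
    · refine Subtype.ext ?_
      show (σ b : ↥(chevE6.group F)) * Y = Y * (σ b : ↥(chevE6.group F))
      rw [ebu]; exact (hY u).eq
  let D := (gens Z hq hK).data
  let g : ↥G₁ := ⟨D.nW (lwd i), D.nW_mem _⟩
  have key : ∀ t : F, ∀ y : ↥G₁, (y : ↥(chevE6.group F)) = (MT.rel K).x (rep i) t →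
      P (g⁻¹ * y * g) := by
    intro t y hy
    obtain ⟨d, hd, hd'⟩ := (D.nW_coset (lwd i)).conj_x 71
    rw [show (MT.S).actw (D.aw (lwd i)) 71 = rep i from lwd_ok i hi] at hd'
    have e : ((g⁻¹ * y * g : ↥G₁) : ↥(chevE6.group F)) = (MT.rel K).x 71 (d⁻¹ * t) := by
      rw [Subgroup.coe_mul, Subgroup.coe_mul, Subgroup.coe_inv, hy]
      have := hd' (d⁻¹ * t)
      rw [mul_inv_cancel_left₀ hd] at this
      rw [← this]
      show (D.nW (lwd i))⁻¹ * (D.nW (lwd i) * (MT.rel K).x 71 (d⁻¹ * t) * (D.nW (lwd i))⁻¹) *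
        D.nW (lwd i) = _
      group
    refine ⟨_, ?_, e⟩
    have h2 := fixed_gen Z (qpow_hom hq hK).2.2 _ (e ▸ (g⁻¹ * y * g).2)
    rw [Z.σ_x, lam_q, show fd.O.rho (71 : Fin MT.tab.n) = 71 from rfl,
      show (PP.ef (71 : Fin MT.tab.n).val : F) = 1 from Int.cast_one, one_mul] at h2
    exact Z.iso.x_injective _ h2
  exact KnownSimple.Pairing.comm_of_conj hσ base g
    (key v _ (by rw [ha]; exact x_of_eF Z hq hK hi hv))
    (key w _ (by rw [hb]; exact x_of_eF Z hq hK hi hw))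

/-- the series of the unipotent subgroup -/
noncomputable def series (h3 : 3 ≤ q) :
    KnownSimple.Series.Data (↥G₁) F (TPar F) (UF : Subgroup ↥G₁) 24 where
  h := hT hq hK Z
  h_comm s t := by
    refine Subtype.ext ?_
    show tor MT K _ * tor MT K _ = tor MT K _ * tor MT K _
    rw [← Z.tor_mul, ← Z.tor_mul, mul_comm]
  h_norm s u hu := by
    refine Subgroup.mem_subgroupOf.2 ?_
    rw [Subgroup.coe_mul, Subgroup.coe_mul, Subgroup.coe_inv]
    exact H_conj_Sg (MT.rel K) (Z.tor_mem_H _) (Subgroup.mem_subgroupOf.1 hu)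
  Fl i := FlF (min i 24)
  Fl_zero := FlF_zero
  Fl_mono i := by
    by_cases hi : i < 24
    · rw [Nat.min_eq_left hi.le, Nat.min_eq_left hi]
      exact FlF_mono hi
    · rw [Nat.min_eq_right (by omega), Nat.min_eq_right (by omega)]
  Fl_le i := FlF_le (min_le_right _ _)
  top := le_rfl
  V := Vf hq hK
  e := eF Z hq hK
  χ i s := (wgt q i s : F)
  mem i v _ := by
    rw [Nat.min_eq_left (by omega : i.val + 1 ≤ 24)]
    exact eF_mem Z hq hK i v
  dec i g hg := by
    rw [Nat.min_eq_left (by omega : i.val + 1 ≤ 24)] at hg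
    rw [Nat.min_eq_left (by omega : i.val ≤ 24)]
    exact FlF_dec Z hq hK i hg
  add i v hv w hw := by rw [eF_add Z hq hK i hv hw, inv_mul_cancel]; exact one_mem _
  inj i v hv h := by
    rw [Nat.min_eq_left (by omega : i.val ≤ 24)] at h
    exact FlF_inj Z hq hK i hv h
  central i g hg u hu := by
    rw [Nat.min_eq_left (by omega : i.val + 1 ≤ 24)] at hg
    rw [Nat.min_eq_left (by omega : i.val ≤ 24)]
    exact FlF_central Z hq hK i hg hu
  χ_mem i s v hv := wgt_mul_mem hq hK Z i s hv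
  scale i s v hv := by
    rw [hT_conj hq hK Z i s hv (wgt_mul_mem hq hK Z i s hv), inv_mul_cancel]
    exact one_mem _
  moves i := by
    obtain ⟨k, hk⟩ := moves_ok i
    obtain ⟨t, ht⟩ := mono_ne_one hq hK h3 hk
    exact ⟨(t, k), fun e => ht (Units.ext (by rw [← wgt_eq q i (t, k)]; exact e))⟩

omit Z in
theorem separate (h3 : 3 ≤ q) (i j : Fin 24) (hij : i < j) : ∃ s : TPar F,
    (wgt q i s = 1 ∧ wgt q j s ≠ 1) ∨ (wgt q j s = 1 ∧ wgt q i s ≠ 1) := by
  obtain ⟨k, ⟨h1, h2⟩ | ⟨h1, h2⟩⟩ := sep_ok i j hij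
  · obtain ⟨t, ht⟩ := mono_ne_one hq hK h3 h2
    exact ⟨(t, k), Or.inl ⟨by rw [wgt_eq, h1, mono_zero], by rwa [wgt_eq]⟩⟩
  · obtain ⟨t, ht⟩ := mono_ne_one hq hK h3 h2
    exact ⟨(t, k), Or.inr ⟨by rw [wgt_eq, h1, mono_zero], by rwa [wgt_eq]⟩⟩

theorem local_char (h3 : 3 ≤ q) (σ : Γ →* ↥G₁) (hσ : Function.Surjective σ)
    (hc : σ.ker ≤ Subgroup.center Γ) : σ.ker ⊓ ⁅UF.comap σ, UF.comap σ⁆ = ⊥ := by
  classical
  refine KnownSimple.Series.ker_inf_commutator (series Z hq hK h3) σ hσ hc fun i j hij => ?_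
  have hinv : ∀ (i : Fin 24) (s : TPar F), (wgt q i s : F) ≠ 1 →
      ∀ w ∈ Vf hq hK i, ((wgt q i s : F) - 1)⁻¹ * w ∈ Vf hq hK i := by
    intro i s hne w hw
    by_cases hi : small i
    · have h1 : (1 : F) ∈ Vf hq hK i := (mem_Vf_small hq hK hi).2 (one_pow q)
      have hs : (wgt q i s : F) ^ q = wgt q i s := by
        have := (mem_Vf_small hq hK hi).1 (wgt_mul_mem hq hK Z i s h1)
        rwa [mul_one] at this
      rw [mem_Vf_small hq hK hi] at hw ⊢
      have e : ((wgt q i s : F) - 1) ^ q = (wgt q i s : F) - 1 := by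
        rw [sub_eq_add_neg, (qpow_hom hq hK).1, qpow_neg hq hK, one_pow, hs]
      rw [mul_pow, inv_pow, e, hw]
    · exact mem_Vf_big hq hK hi _
  rcases eq_or_lt_of_le hij with rfl | hlt
  · by_cases hi : small i
    · exact Or.inr fun a b v hv w hw ha hb => long_comm Z hq hK σ hσ hc hi a b hv hw ha hb
    · refine Or.inl fun A _ B hB _ v w => ?_
      let f : F →+ Vf hq hK i := AddMonoidHom.mk' (fun x => ⟨x, mem_Vf_big hq hK hi x⟩) fun _ _ => rfl
      let B' : F →+ F →+ A := ((B.comp f).flip.comp f).flip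
      have h5 : 5 ≤ Nat.card F := by
        rw [Nat.card_eq_fintype_card, hK]
        nlinarith
      refine KnownSimple.Pairing.zero_of_scalars h5 B' (fun c hc0 x y => ?_) v.1 w.1
      have hsF : (wgt q i (Units.mk0 c hc0, ontoK i) : F) = c := by
        rw [wgt_eq, onto_ok i hi]; simp [mono]
      have h := hB (Units.mk0 c hc0, ontoK i) (f x) (f y)
      refine Eq.trans ?_ h
      show B (f (c * x)) (f (c * y)) = _
      congr 2 <;> exact Subtype.ext (congrArg (· * _) hsF.symm)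
  · refine Or.inl fun A _ B hB _ v w => ?_
    obtain ⟨s, hs⟩ := separate hq hK h3 i j hlt
    rcases hs with ⟨h1, h2⟩ | ⟨h1, h2⟩
    · have hne : (wgt q j s : F) ≠ 1 := fun e => h2 (Units.ext e)
      refine KnownSimple.Pairing.zero_of_right B hne (fun w hw => wgt_mul_mem hq hK Z j s hw)
        (hinv j s hne) (fun v w => ?_) v w
      refine Eq.trans ?_ (hB s v w)
      congr 2
      exact Subtype.ext (by show _ = ((wgt q i s : Fˣ) : F) * _; rw [h1, Units.val_one, one_mul])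
    · have hne : (wgt q i s : F) ≠ 1 := fun e => h2 (Units.ext e)
      have := KnownSimple.Pairing.zero_of_right B.flip hne (fun w hw => wgt_mul_mem hq hK Z i s hw)
        (hinv i s hne) (fun w v => ?_) w v
      · exact this
      refine Eq.trans ?_ (hB s v w)
      show B _ w = _
      congr 1
      exact Subtype.ext (by show _ = ((wgt q j s : Fˣ) : F) * _; rw [h1, Units.val_one, one_mul])

end Cfsg.Agent.Twisted.TypeE6
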