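import Cfsg.Agent.KnownSimple.Multiplier.E6T.Levi
import Cfsg.Agent.KnownSimple.Multiplier.LiftLocal
import Cfsg.Agent.KnownSimple.Multiplier.SL2
import Cfsg.Agent.Twisted.Transfer

/-!
The kernels of stem extensions of `²E₆(q)`, `q ≥ 3`, have order at most `gcd (3, q + 1)`.
-/

set_option autoImplicit false
set_option linter.unusedSectionVars false

namespace Cfsg.Agent.Twisted.TypeE6

open ChevGroup ChevIsogeny Cfsg.Lie
open Cfsg.Agent.KnownSimple
open Cfsg.Agent.ChevCore (slU slL pn ph)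
open scoped commutatorElement

universe w

/-- an alternating word -/
def altW (i j : Fin 4) : ℕ → List (Fin 4)
  | 0 => []
  | n + 1 => i :: altW j i n

/-- the braid relation of the orbits `i`, `j` as a conjugacy of two reflections -/
def braidB (i j : Fin 4) (m : ℕ) : Bool :=
  let P := altW i j (m - 1)
  let s := (altW i j m).getD (m - 1) 0
  decide (P ++ [s] ++ P.reverse ++ [j] = (List.replicate m [i, j]).flatten) &&
    decide (∀ r ∈ fd.O.cls s, (MT.S).actw (P.map fd.O.wd).flatten r ∈ fd.O.cls j) &&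
    decide (∀ r, (MT.S).actw (P.map fd.O.wd).flatten ((MT.S).actw (fd.O.wd s)
      ((MT.S).actw (P.map fd.O.wd).flatten.reverse ((MT.S).actw (fd.O.wd j) r))) = r)

theorem braidB_ok : ∀ i j : Fin 4, i ≠ j → braidB i j (CoxeterMatrix.F₄ i j) = true := by
  decide +kernel

variable {F : Type w} [Field F] [Fintype F] {q : ℕ} {K : Rels chevE6 F}
  (Z : Frame (T := MT) K PP q fd)
  (hq : IsPrimePow q) (hK : Fintype.card F = q ^ 2)

set_option quotPrecheck false in
local notation "G₁" => genG MT K (e6Words F q)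

theorem mem_UF_iff {g : ↥G₁} : g ∈ (UF : Subgroup ↥G₁) ↔ (g : ↥(chevE6.group F)) ∈ (MT.rel K).U :=
  ⟨fun hg => Sg_mono (MT.rel K) (T := (· ∈ lev 24)) (fun r hr => mem_pl.1 ((lev_top r).1 hr)) hg,
    fun hg => Sg_mono (MT.rel K) (T := (MT.S).pos) (fun r hr => (lev_top r).2 (mem_pl.2 hr)) hg⟩

include Z hq hK

theorem card_U1_eq : Nat.card ↥(gens Z hq hK).data.U1 = q ^ 36 := by
  obtain ⟨x0, x1, x2, x3⟩ := card_X Z hq hK
  rw [(gens Z hq hK).data.card_U1 (MT.shapeR K) ((gens Z hq hK).longest long_ok)]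
  simp only [W0, List.map_cons, List.map_nil, List.prod_cons, List.prod_nil, x0, x1, x2, x3]
  ring

theorem card_UF : Nat.card ↥(UF : Subgroup ↥G₁) = q ^ 36 := by
  rw [← card_U1_eq Z hq hK]
  exact Nat.card_congr
    { toFun := fun g => ⟨(g.1 : ↥(chevE6.group F)), Subgroup.mem_inf.2 ⟨g.1.2, mem_UF_iff.1 g.2⟩⟩
      invFun := fun g => ⟨⟨g.1, (Subgroup.mem_inf.1 g.2).1⟩, mem_UF_iff.2 (Subgroup.mem_inf.1 g.2).2⟩
      left_inv := fun _ => rfl
      right_inv := fun _ => rfl }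

theorem index_UF {p : ℕ} (hp : p.Prime) (hpq : p ∣ q) : ¬ p ∣ (UF : Subgroup ↥G₁).index := by
  have h1 := (UF : Subgroup ↥G₁).card_mul_index
  rw [card_UF Z hq hK] at h1
  have h2 := card_G Z hq hK
  rw [show Nat.card ↥(twistedE6 F q) = Nat.card ↥G₁ from
    (Nat.card_congr (genEquiv MT K (e6Words F q)).toEquiv).symm, ← h1] at h2
  have h3 : Nat.gcd 3 (q + 1) * (UF : Subgroup ↥G₁).index =
      (q ^ 2 - 1) * (q ^ 5 + 1) * (q ^ 6 - 1) * (q ^ 8 - 1) * (q ^ 9 + 1) * (q ^ 12 - 1) := by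
    refine Nat.eq_of_mul_eq_mul_left (pow_pos hq.pos 36) ?_
    rw [mul_left_comm, h2]
    ring
  intro h
  have hq1 : ∀ n, n ≠ 0 → ¬ p ∣ q ^ n - 1 := fun n hn hd => hp.not_dvd_one (by
    have := Nat.dvd_sub (hpq.trans (dvd_pow_self q hn)) hd
    rwa [Nat.sub_sub_self (Nat.one_le_pow _ _ hq.pos)] at this)
  have hq2 : ∀ n, n ≠ 0 → ¬ p ∣ q ^ n + 1 := fun n hn hd =>
    hp.not_dvd_one ((Nat.dvd_add_right (hpq.trans (dvd_pow_self q hn))).1 hd)
  have h4 := h.trans (Dvd.intro_left _ h3)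
  simp only [hp.dvd_mul] at h4
  rcases h4 with ((((h | h) | h) | h) | h) | h
  exacts [hq1 2 (by norm_num) h, hq2 5 (by norm_num) h, hq1 6 (by norm_num) h, hq1 8 (by norm_num) h,
    hq2 9 (by norm_num) h, hq1 12 (by norm_num) h]

omit Z in
theorem natCast_zero {p j : ℕ} (hp : p.Prime) (hj : q = p ^ j) : (p : F) = 0 := by
  obtain ⟨r, i, hr, hc, e, hi⟩ := exists_char_pow hq hK
  obtain ⟨-, rfl⟩ : _ ∧ r = p := ⟨hi, (Nat.prime_dvd_prime_iff_eq hr hp).1
    (hr.dvd_of_dvd_pow (hj ▸ e.symm ▸ dvd_pow_self r hi.ne'))⟩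
  haveI := hc
  exact CharP.cast_eq_zero F r

theorem H_comm {a b : ↥(chevE6.group F)} (ha : a ∈ (MT.rel K).H) (hb : b ∈ (MT.rel K).H) :
    a * b = b * a := by
  obtain ⟨c, rfl⟩ := Z.exists_tor torOk ha
  obtain ⟨d, rfl⟩ := Z.exists_tor torOk hb
  rw [← Z.tor_mul, ← Z.tor_mul, mul_comm]

/-- the rank one subgroups -/
noncomputable def Lk (k : Fin 4) : Subgroup ↥(chevE6.group F) :=
  if k = 0 then (oneHom (K := K) hq hK 46).range
  else if k = 1 then (oneHom (K := K) hq hK 39).range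
  else if k = 2 then (pairHom Z hq hK (42, 37) pair_ok.2.2.1 (by decide)).range
  else (pairHom Z hq hK (56, 36) pair_ok.2.2.2 (by decide)).range

theorem lev_exists {p j : ℕ} (hp : p.Prime) (hj : q = p ^ j) (k : Fin 4) :
    ∃ (E : Type w) (_ : Field E) (ψ : Matrix.SpecialLinearGroup (Fin 2) E →* ↥(chevE6.group F)),
      (gens Z hq hK).data.IsLevi k ψ ∧ Lk Z hq hK k = ψ.range ∧ (p : E) = 0 := by
  have h0 := natCast_zero hq hK hp hj
  match k with
  | 0 => exact ⟨_, inferInstance, _, isLevi0 Z hq hK, rfl, Subtype.ext (by simpa using h0)⟩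
  | 1 => exact ⟨_, inferInstance, _, isLevi1 Z hq hK, rfl, Subtype.ext (by simpa using h0)⟩
  | 2 => exact ⟨_, inferInstance, _, isLevi2 Z hq hK, rfl, h0⟩
  | 3 => exact ⟨_, inferInstance, _, isLevi3 Z hq hK, rfl, h0⟩

/-- the parameters of the torus of a rank one subgroup -/
def sing (q : ℕ) (k : Fin 4) (a : Fˣ) : Fin MT.tab.l → Fˣ :=
  [cvec q 1 a 1 1, cvec q 1 1 1 a, cvec q 1 1 a 1, cvec q a 1 1 1].getD k.val 1

theorem cvec_mul (a b c d a' b' c' d' : Fˣ) :
    cvec q a b c d * cvec q a' b' c' d' = cvec q (a * a') (b * b') (c * c') (d * d') := by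
  funext j
  match j with
  | 0 => rfl
  | 1 => rfl
  | 2 => rfl
  | 3 => rfl
  | 4 => exact (mul_pow c c' q).symm
  | 5 => exact (mul_pow a a' q).symm

theorem H1_gen {h : ↥(chevE6.group F)} (hh : h ∈ (gens Z hq hK).data.H1) :
    h ∈ ⨆ k, Lk Z hq hK k ⊓ (gens Z hq hK).data.H1 := by
  rw [(gens Z hq hK).H1_eq torOk (pre_eq Z) inv_ok (m := 2) (by decide) (per Z (qpow_hom hq hK).2.2)] at hh
  obtain ⟨c, hc, rfl⟩ := hh
  have hc' := (Z.mem_fixedPar).1 hc
  have hb : c 1 ^ q = c 1 := by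
    have := congrFun hc' 1
    rwa [sig_apply Z] at this
  have hd : c 3 ^ q = c 3 := by
    have := congrFun hc' 3
    rwa [sig_apply Z] at this
  have e : c = sing q 0 (c 1) * sing q 1 (c 3) * sing q 2 (c 2) * sing q 3 (c 0) := by
    refine (fixed_eq_cvec Z hc').trans ?_
    show _ = cvec q 1 (c 1) 1 1 * cvec q 1 1 1 (c 3) * cvec q 1 1 (c 2) 1 * cvec q (c 0) 1 1 1
    rw [cvec_mul Z hq hK, cvec_mul Z hq hK, cvec_mul Z hq hK]
    simp
  have one : (1 : Fˣ) ^ q = 1 := one_pow q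
  have hH : ∀ a b x y : Fˣ, b ^ q = b → y ^ q = y →
      Z.torHom (cvec q a b x y) ∈ (gens Z hq hK).data.H1 := fun a b x y hb hy =>
    Subgroup.mem_inf.2 ⟨torus_mem Z (qpow_hom hq hK).1 hq.pos.ne' _ (sig_cvec Z hq hK a b x y hb hy),
      Z.tor_mem_H _⟩
  obtain ⟨s0, s1, -, -⟩ := single_cvec Z hq hK (c 1)
  obtain ⟨-, t1, -, -⟩ := single_cvec Z hq hK (c 3)
  obtain ⟨-, -, u2, -⟩ := single_cvec Z hq hK (c 2)
  obtain ⟨-, -, -, v3⟩ := single_cvec Z hq hK (c 0)
  rw [e, map_mul, map_mul, map_mul]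
  refine mul_mem (mul_mem (mul_mem
    (le_iSup (fun k => Lk Z hq hK k ⊓ (gens Z hq hK).data.H1) 0
      (Subgroup.mem_inf.2 ⟨?_, hH _ _ _ _ hb one⟩))
    (le_iSup (fun k => Lk Z hq hK k ⊓ (gens Z hq hK).data.H1) 1
      (Subgroup.mem_inf.2 ⟨?_, hH _ _ _ _ one hd⟩)))
    (le_iSup (fun k => Lk Z hq hK k ⊓ (gens Z hq hK).data.H1) 2
      (Subgroup.mem_inf.2 ⟨?_, hH _ _ _ _ one one⟩)))
    (le_iSup (fun k => Lk Z hq hK k ⊓ (gens Z hq hK).data.H1) 3
      (Subgroup.mem_inf.2 ⟨?_, hH _ _ _ _ one one⟩))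
  · exact ⟨_, (oneHom_torus Z hq hK (j := 1) (r := 46) (Fin.ext rfl) (c 1)
      (by rw [← Units.val_pow_eq_pow_val, hb])).trans (congrArg (tor MT K) s0)⟩
  · exact ⟨_, (oneHom_torus Z hq hK (j := 3) (r := 39) (Fin.ext rfl) (c 3)
      (by rw [← Units.val_pow_eq_pow_val, hd])).trans (congrArg (tor MT K) t1)⟩
  · exact ⟨_, (pairHom_torus Z hq hK (i := 2) (j := 4) pair_ok.2.2.1 (by decide) (Fin.ext rfl)
      (Fin.ext rfl) (c 2)).trans (congrArg (tor MT K) u2)⟩
  · exact ⟨_, (pairHom_torus Z hq hK (i := 0) (j := 5) pair_ok.2.2.2 (by decide) (Fin.ext rfl)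
      (Fin.ext rfl) (c 0)).trans (congrArg (tor MT K) v3)⟩

/-- an element of the torus of a rank one subgroup has one parameter -/
theorem exists_sing {p j : ℕ} (hp : p.Prime) (hj : q = p ^ j) (k : Fin 4) {g : ↥(chevE6.group F)}
    (hgL : g ∈ Lk Z hq hK k) (hgH : g ∈ (MT.rel K).H) :
    ∃ a : Fˣ, (k = 0 ∨ k = 1 → a ^ q = a) ∧ g = Z.torHom (sing q k a) := by
  match k with
  | 0 =>
    obtain ⟨g', rfl⟩ := hgL
    obtain ⟨a, ha, rfl⟩ := (isLevi0 Z hq hK).mem_H_iff (MT.shapeR K) (g := g') hgH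
    have ha' : (a : F) ≠ 0 := fun e => ha (Subtype.ext e)
    exact ⟨Units.mk0 (a : F) ha', fun _ => Units.ext (by rw [Units.val_pow_eq_pow_val]; exact a.2),
      (oneHom_torus Z hq hK (j := 1) (r := 46) (Fin.ext rfl) (Units.mk0 (a : F) ha') a.2).trans
        (congrArg (tor MT K) (single_cvec Z hq hK _).1)⟩
  | 1 =>
    obtain ⟨g', rfl⟩ := hgL
    obtain ⟨a, ha, rfl⟩ := (isLevi1 Z hq hK).mem_H_iff (MT.shapeR K) (g := g') hgH
    have ha' : (a : F) ≠ 0 := fun e => ha (Subtype.ext e)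
    exact ⟨Units.mk0 (a : F) ha', fun _ => Units.ext (by rw [Units.val_pow_eq_pow_val]; exact a.2),
      (oneHom_torus Z hq hK (j := 3) (r := 39) (Fin.ext rfl) (Units.mk0 (a : F) ha') a.2).trans
        (congrArg (tor MT K) (single_cvec Z hq hK _).2.1)⟩
  | 2 =>
    obtain ⟨g', rfl⟩ := hgL
    obtain ⟨a, ha, rfl⟩ := (isLevi2 Z hq hK).mem_H_iff (MT.shapeR K) (g := g') hgH
    exact ⟨Units.mk0 a ha, fun h => absurd h (by decide),
      (pairHom_torus Z hq hK (i := 2) (j := 4) pair_ok.2.2.1 (by decide) (Fin.ext rfl)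
        (Fin.ext rfl) (Units.mk0 a ha)).trans (congrArg (tor MT K) (single_cvec Z hq hK _).2.2.1)⟩
  | 3 =>
    obtain ⟨g', rfl⟩ := hgL
    obtain ⟨a, ha, rfl⟩ := (isLevi3 Z hq hK).mem_H_iff (MT.shapeR K) (g := g') hgH
    exact ⟨Units.mk0 a ha, fun h => absurd h (by decide),
      (pairHom_torus Z hq hK (i := 0) (j := 5) pair_ok.2.2.2 (by decide) (Fin.ext rfl)
        (Fin.ext rfl) (Units.mk0 a ha)).trans (congrArg (tor MT K) (single_cvec Z hq hK _).2.2.2)⟩

/-- the relations among the tori of the rank one subgroups -/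
theorem relations {p j : ℕ} (hp : p.Prime) (hj : q = p ^ j) (f : Fin 4 → ↥G₁)
    (hf : ∀ k, (f k : ↥(chevE6.group F)) ∈ Lk Z hq hK k ∧
      (f k : ↥(chevE6.group F)) ∈ (MT.rel K).H)
    (hprod : ((List.finRange (Fintype.card (Fin 4))).map fun i =>
      f ((Fintype.equivFin (Fin 4)).symm i)).prod = 1) :
    ∃ w : Fˣ, w ^ Nat.gcd 3 (q + 1) = 1 ∧
      ∀ k, (f k : ↥(chevE6.group F)) = Z.torHom (sing q k (![1, 1, w ^ 2, w] k)) := by
  choose a ha he using fun k => exists_sing Z hq hK hp hj k (hf k).1 (hf k).2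
  have h1 : Z.torHom (∏ k, sing q k (a k)) = 1 := by
    have e : ∏ k, sing q k (a k) = ((List.finRange (Fintype.card (Fin 4))).map fun i =>
        sing q ((Fintype.equivFin (Fin 4)).symm i) (a ((Fintype.equivFin (Fin 4)).symm i))).prod :=
      (Equiv.prod_comp (Fintype.equivFin (Fin 4)).symm fun k => sing q k (a k)).symm.trans
        (Fin.prod_univ_def _)
    have := congrArg Subtype.val hprod
    rw [SubmonoidClass.coe_list_prod, List.map_map] at this
    rw [e, map_list_prod, List.map_map]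
    refine Eq.trans ?_ this
    exact congrArg List.prod (List.map_congr_left fun i _ => (he _).symm)
  have e4 : ∏ k, sing q k (a k) = cvec q (a 3) (a 0) (a 2) (a 1) := by
    rw [Fin.prod_univ_four]
    show cvec q 1 (a 0) 1 1 * cvec q 1 1 1 (a 1) * cvec q 1 1 (a 2) 1 * cvec q (a 3) 1 1 1 = _
    rw [cvec_mul Z hq hK, cvec_mul Z hq hK, cvec_mul Z hq hK]
    simp
  rw [e4] at h1
  obtain ⟨h2, h3⟩ := ker_fixed Z (sig_cvec Z hq hK _ _ _ _ (ha 0 (Or.inl rfl)) (ha 1 (Or.inr rfl))) h1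
  have h0 : a 0 = 1 := congrFun h2 1
  have h1' : a 1 = 1 := congrFun h2 3
  have h2' : a 2 = a 3 ^ 2 := congrFun h2 2
  refine ⟨a 3, h3, fun k => ?_⟩
  rw [he k]
  match k with
  | 0 => rw [h0]; rfl
  | 1 => rw [h1']; rfl
  | 2 => rw [h2']; rfl
  | 3 => rfl

/-- the setup -/
noncomputable def setup {p j : ℕ} (hp : p.Prime) (hj : q = p ^ j) :
    BNLift.Setup ↥G₁ (Fin 4) p :=
  (gens Z hq hK).data.liftSetup (MT.shapeR K) p ((gens Z hq hK).longest long_ok) (gens Z hq hK).split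
    Z.pres (fun _ ha _ hb => H_comm Z hq hK ha hb)
    (fun u hu => ⟨j * 36, by
      have := pow_card_eq_one' (x := (⟨u, hu⟩ : ↥(gens Z hq hK).data.U1))
      rw [card_U1_eq Z hq hK] at this
      rw [show p ^ (j * 36) = q ^ 36 by rw [hj, pow_mul]]
      exact congrArg Subtype.val this⟩)
    (Lk Z hq hK) (lev_exists Z hq hK hp hj) (fun _ hh => H1_gen Z hq hK hh) CoxeterMatrix.F₄ psi psi_inj
    (fun k r => by rw [psi_simple]; rfl) (fun i j hij _ => by
      have h := braidB_ok i j hij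
      simp only [braidB, Bool.and_eq_true, decide_eq_true_eq] at h
      exact ⟨_, _, j, Or.inl h.1.1, h.1.2, h.2⟩)

theorem card_ker_le (h3 : 3 ≤ q) {Γ : Type w} [Group Γ] [Finite Γ]
    (σ : Γ →* ↥G₁) (hσ : Cfsg.IsStemExtension σ) : Nat.card σ.ker ≤ Nat.gcd 3 (q + 1) := by
  classical
  obtain ⟨p, j, hp, -, hj, hj0⟩ := Cfsg.Agent.Twisted.exists_char_pow hq hK
  haveI := Fact.mk hp
  obtain ⟨hσs, hσc, hσd⟩ := hσ
  have hloc := local_char Z hq hK h3 σ hσs hσc
  have hp0 := natCast_zero hq hK hp hj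
  have hcop : (Nat.card σ.ker).Coprime p := by
    refine (hp.coprime_iff_not_dvd.2 fun hd => ?_).symm
    obtain ⟨⟨z, hz⟩, ho⟩ := exists_prime_orderOf_dvd_card' p hd
    rw [Subgroup.orderOf_mk] at ho
    have hmem := Cfsg.Agent.Schur.pow_index_mem_commutator ((UF : Subgroup ↥G₁).comap σ) (hσc hz) (hσd hz)
    rw [Subgroup.map_subtype_commutator, Subgroup.index_comap_of_surjective _ hσs] at hmem
    have h1 : z ^ (UF : Subgroup ↥G₁).index ∈ (⊥ : Subgroup Γ) := hloc ▸ ⟨pow_mem hz _, hmem⟩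
    exact index_UF Z hq hK hp (hj ▸ dvd_pow_self p hj0.ne')
      (ho ▸ orderOf_dvd_of_pow_eq_one (Subgroup.mem_bot.1 h1))
  have hperf : commutator Γ = ⊤ := by
    have hG : commutator ↥G₁ = ⊤ := (gens Z hq hK).data.commutator_eq_top (gens Z hq hK).split
      (mem_derived Z hq hK)
    have h1 : (commutator Γ).map σ = ⊤ := by
      rw [_root_.commutator_def, Subgroup.map_commutator, Subgroup.map_top_of_surjective σ hσs,
        ← _root_.commutator_def, hG]
    rw [eq_top_iff]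
    intro y _
    obtain ⟨a, ha, e⟩ : σ y ∈ (commutator Γ).map σ := by rw [h1]; trivial
    have := mul_mem ha (hσd (show a⁻¹ * y ∈ σ.ker by rw [MonoidHom.mem_ker, map_mul, map_inv, e, inv_mul_cancel]))
    simpa using this
  have hchar : ∀ (E : Type w) [Field E], (p : E) = 0 → CharP E p := fun E _ h =>
    (CharP.charP_iff_prime_eq_zero hp).2 h
  have hM := MT.shapeR K
  obtain ⟨Φ, hΦi, hΦ⟩ := BNLift.exists_ker_torus σ (setup Z hq hK hp hj) hp hσs hσc hperf hcop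
    (fun k => by
      obtain ⟨E, _, ψ, hψ, eL, hpE⟩ := lev_exists Z hq hK hp hj k
      haveI := hchar E hpE
      have : Finite E := Finite.of_injective (fun t : E => (⟨ψ (slU t), hψ.upper_mem t⟩ :
        ↥((gens Z hq hK).data.X k))) (fun a b h => by
          have e := congrArg Subtype.val h
          have P := ChevCore.pairRel_sl (F := E)
          have : ψ (slU (a + -b)) = 1 := by
            rw [P.x_add, P.x_neg, map_mul, map_inv]
            exact mul_inv_eq_one.2 e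
          exact add_neg_eq_zero.1 (hψ.upper_inj _ this))
      let φ : Matrix.SpecialLinearGroup (Fin 2) E →* ↥G₁ := ψ.codRestrict _ hψ.mem_G₁
      refine BNLift.ker_inf_liftGen σ hσs hσc hp hcop φ
        (fun a b h => hψ.injective hM (congrArg Subtype.val h)) _ ?_ ?_
      · show φ.range = (Lk Z hq hK k).subgroupOf G₁
        rw [eL]
        ext g
        exact ⟨fun ⟨a, ha⟩ => ⟨a, congrArg Subtype.val ha⟩, fun ⟨a, ha⟩ => ⟨a, Subtype.ext ha⟩⟩
      · intro ℓ hℓ hℓp Δ _ _ τ hτ hτc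
        haveI := Fact.mk hℓ
        exact ⟨_, (default : Sylow ℓ (Matrix.SpecialLinearGroup (Fin 2) E)).not_dvd_index,
          sylow_condition hℓp default τ hτ hτc⟩)
  choose w hw hwf using fun z => relations Z hq hK hp hj (Φ z) (hΦ z).1 (hΦ z).2
  have hinj : Function.Injective fun z => (⟨w z, hw z⟩ : {u : Fˣ // u ^ Nat.gcd 3 (q + 1) = 1}) := by
    intro z z' h
    refine hΦi (funext fun k => Subtype.ext ?_)
    rw [hwf z k, hwf z' k, show w z = w z' from congrArg Subtype.val h]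
  have hdvd : Nat.gcd 3 (q + 1) ∣ Fintype.card F - 1 := by
    rw [hK]
    refine (Nat.gcd_dvd_right _ _).trans ⟨q - 1, ?_⟩
    zify [hq.pos, Nat.one_le_pow 2 q hq.pos]
    ring
  calc Nat.card σ.ker ≤ Nat.card {u : Fˣ // u ^ Nat.gcd 3 (q + 1) = 1} :=
        Nat.card_le_card_of_injective _ hinj
    _ = Nat.gcd 3 (q + 1) := card_units_pow_eq_one hdvd

end Cfsg.Agent.Twisted.TypeE6
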