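import Cfsg.Agent.Twisted.Groups.E6Inst
import Cfsg.Agent.KnownSimple.Multiplier.TwistedLevels

/-!
The orbits of the symmetry on the positive roots of `²E₆(q)`, ordered by descending height, and the
checks on the series they give.
-/

set_option autoImplicit false

namespace Cfsg.Agent.Twisted.TypeE6

open ChevGroup ChevIsogeny Cfsg.Lie

/-- the terms of the central series -/
def lev (i : ℕ) : List (Fin MT.tab.n) :=
  ([[],
      [71],
      [70, 71],
      [69, 70, 71],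
      [66, 68, 69, 70, 71],
      [65, 66, 68, 69, 70, 71],
      [55, 65, 66, 67, 68, 69, 70, 71],
      [55, 63, 65, 66, 67, 68, 69, 70, 71],
      [54, 55, 63, 64, 65, 66, 67, 68, 69, 70, 71],
      [54, 55, 60, 63, 64, 65, 66, 67, 68, 69, 70, 71],
      [53, 54, 55, 60, 63, 64, 65, 66, 67, 68, 69, 70, 71],
      [52, 53, 54, 55, 60, 62, 63, 64, 65, 66, 67, 68, 69, 70, 71],
      [51, 52, 53, 54, 55, 60, 62, 63, 64, 65, 66, 67, 68, 69, 70, 71],
      [49, 51, 52, 53, 54, 55, 60, 61, 62, 63, 64, 65, 66, 67, 68, 69, 70, 71],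
      [45, 49, 51, 52, 53, 54, 55, 59, 60, 61, 62, 63, 64, 65, 66, 67, 68, 69, 70, 71],
      [45, 48, 49, 50, 51, 52, 53, 54, 55, 59, 60, 61, 62, 63, 64, 65, 66, 67, 68, 69, 70, 71],
      [44, 45, 48, 49, 50, 51, 52, 53, 54, 55, 59, 60, 61, 62, 63, 64, 65, 66, 67, 68, 69, 70, 71],
      [41, 44, 45, 48, 49, 50, 51, 52, 53, 54, 55, 58, 59, 60, 61, 62, 63, 64, 65, 66, 67, 68, 69, 70, 71],
      [41, 44, 45, 47, 48, 49, 50, 51, 52, 53, 54, 55, 58, 59, 60, 61, 62, 63, 64, 65, 66, 67, 68, 69, 70, 71],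
      [40, 41, 43, 44, 45, 47, 48, 49, 50, 51, 52, 53, 54, 55, 58, 59, 60, 61, 62, 63, 64, 65, 66, 67, 68, 69, 70, 71],
      [38, 40, 41, 43, 44, 45, 47, 48, 49, 50, 51, 52, 53, 54, 55, 57, 58, 59, 60, 61, 62, 63, 64, 65, 66, 67, 68, 69, 70, 71],
      [38, 40, 41, 43, 44, 45, 46, 47, 48, 49, 50, 51, 52, 53, 54, 55, 57, 58, 59, 60, 61, 62, 63, 64, 65, 66, 67, 68, 69, 70, 71],
      [38, 39, 40, 41, 43, 44, 45, 46, 47, 48, 49, 50, 51, 52, 53, 54, 55, 57, 58, 59, 60, 61, 62, 63, 64, 65, 66, 67, 68, 69, 70, 71],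
      [37, 38, 39, 40, 41, 42, 43, 44, 45, 46, 47, 48, 49, 50, 51, 52, 53, 54, 55, 57, 58, 59, 60, 61, 62, 63, 64, 65, 66, 67, 68, 69, 70, 71],
      [36, 37, 38, 39, 40, 41, 42, 43, 44, 45, 46, 47, 48, 49, 50, 51, 52, 53, 54, 55, 56, 57, 58, 59, 60, 61, 62, 63, 64, 65, 66, 67, 68, 69, 70, 71]] : List (List (Fin 72))).getD i []

/-- the factors -/
def fac (i : Fin 24) : List (Fin MT.tab.n) :=
  ([[71], [70], [69], [66, 68], [65], [55, 67], [63], [54, 64], [60], [53], [52, 62], [51], [49, 61], [45, 59], [48, 50], [44], [41, 58], [47], [40, 43], [38, 57], [46], [39], [37, 42], [36, 56]] : List (List (Fin 72))).getD i.val []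

/-- the first root of each factor -/
def rep (i : Fin 24) : Fin MT.tab.n := ([71, 70, 69, 66, 65, 55, 63, 54, 60, 53, 52, 51, 49, 45, 48, 44, 41, 47, 40, 38, 46, 39, 37, 36] : List (Fin 72)).getD i.val 0

/-- whether the factor is parametrised by the small field -/
def small (i : Fin 24) : Prop := fd.O.rho (rep i) = rep i

instance (i : Fin 24) : Decidable (small i) := inferInstanceAs (Decidable (_ = _))

/-- the words of the Weyl group carrying the highest root to the long roots -/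
def lwd (i : Fin 24) : List (Fin 4) :=
  ([[], [0], [1, 0], [], [2, 1, 0], [], [1, 2, 1, 0], [], [0, 1, 2, 1, 0], [3, 2, 1, 0], [], [3, 1, 2, 1, 0], [], [], [], [3, 0, 1, 2, 1, 0], [], [2, 3, 1, 2, 1, 0], [], [], [1, 2, 3, 1, 2, 1, 0], [2, 3, 0, 1, 2, 1, 0], [], []] : List (List (Fin 4))).getD i.val []

theorem lev_ok : ∀ i : Fin 24, levelB MT PP (lev (i.val + 1)) (lev i.val) = true := by decide +kernel

theorem fac_eq : ∀ i : Fin 24, topOf (lev (i.val + 1)) (lev i.val) = fac i := by decide +kernel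

theorem fac_comm : ∀ i : Fin 24, commListB PP fd (fac i) = true := by decide +kernel

theorem rho_lev : ∀ i : Fin 25, ∀ r ∈ lev i.val, fd.O.rho r ∈ lev i.val := by decide +kernel

theorem fac_pos : ∀ i : Fin 24, ∀ r ∈ fac i, r ∈ MT.posList := by decide +kernel

theorem rep_mem : ∀ i, rep i ∈ fac i := by decide +kernel

theorem fac_cases : ∀ i : Fin 24, ∀ r ∈ fac i, r = rep i ∨ r = fd.O.rho (rep i) := by decide +kernel

theorem rho_rep : ∀ i : Fin 24, fd.O.rho (fd.O.rho (rep i)) = rep i := by decide +kernel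

theorem ef_rep : ∀ i : Fin 24, PP.ef (fd.O.rho (rep i)).val * PP.ef (rep i).val = 1 ∧
    (small i → PP.ef (rep i).val = 1 ∧ fac i = [rep i]) := by decide +kernel

theorem lev_top : ∀ r : Fin MT.tab.n, r ∈ lev 24 ↔ r ∈ MT.posList := by decide +kernel

theorem lev_succ : ∀ i : Fin 24, ∀ r ∈ lev i.val, r ∈ lev (i.val + 1) := by decide +kernel

theorem lwd_ok : ∀ i : Fin 24, small i →
    (MT.S).actw ((lwd i).map fd.O.wd).flatten 71 = rep i := by decide +kernel

theorem lf_one : ∀ r : Fin MT.tab.n, ChevIsogeny.IsoData.lf PP r.val = 1 := by decide +kernel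

end Cfsg.Agent.Twisted.TypeE6
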