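import Cfsg.Agent.KnownSimple.Multiplier.E6T.Coord
import Cfsg.Agent.KnownSimple.Multiplier.Series

/-!
One-parameter families in the torus of `²E₆(q)` and the characters of the factors of the unipotent
subgroup on them.
-/

set_option autoImplicit false
set_option linter.unusedSectionVars false

namespace Cfsg.Agent.Twisted.TypeE6

open ChevGroup ChevIsogeny Cfsg.Lie

/-- exponents `(a, b)`, standing for `a + b q`, of the coordinates of a family in the torus -/
def ex (k : Fin 14) (j : Fin MT.tab.l) : ℤ × ℤ :=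
  (([[(-1, 1), (0, 0), (-1, 1), (0, 0), (1, -1), (1, -1)], [(-1, 1), (0, 0), (-1, 0), (0, 0), (0, -1), (1, -1)], [(0, -1), (0, 0), (-1, 0), (0, 0), (0, -1), (-1, 0)], [(0, 0), (0, 0), (1, 1), (1, 1), (1, 1), (0, 0)], [(0, 0), (1, 1), (0, 0), (0, 0), (0, 0), (0, 0)], [(1, 1), (1, 1), (1, 1), (1, 1), (1, 1), (1, 1)], [(1, 0), (0, 0), (-1, -1), (0, 0), (-1, -1), (0, 1)], [(-1, -1), (0, 0), (-1, 0), (0, 0), (0, -1), (-1, -1)], [(-1, 0), (0, 0), (-1, 0), (0, 0), (0, -1), (0, -1)], [(-1, 0), (0, 0), (0, 1), (0, 0), (1, 0), (0, -1)], [(-1, 0), (0, 0), (-1, -1), (0, 0), (-1, -1), (0, -1)], [(1, 1), (0, 0), (-1, 0), (0, 0), (0, -1), (1, 1)], [(0, -1), (0, 0), (0, 0), (0, 0), (0, 0), (-1, 0)], [(0, 0), (0, 0), (0, -1), (0, 0), (-1, 0), (0, 0)]] : List (List (ℤ × ℤ))).getD k.val []).getD j.val 0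

/-- the exponent of the character of a factor on a family -/
def wex (k : Fin 14) (i : Fin 24) : ℤ × ℤ :=
  ((List.finRange MT.tab.l).map fun j =>
    (chevE6.pairing ((MT.S).simple j).val (rep i).val) • ex k j).sum

/-- the family on which the character of a short factor is the parameter -/
def ontoK (i : Fin 24) : Fin 14 := ([0, 0, 0, 6, 0, 7, 0, 8, 0, 0, 9, 0, 10, 9, 8, 0, 10, 0, 8, 11, 0, 0, 12, 13] : List (Fin 14)).getD i.val 0

/-- `a + b q` is nonzero modulo `q ^ 2 - 1` for every `q ≥ 3` -/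
def bigB (v : ℤ × ℤ) : Bool :=
  decide (v ≠ 0) && decide (|v.1| ≤ 2) && decide (|v.2| ≤ 2) && decide (v ≠ (2, 2)) &&
    decide (v ≠ (-2, -2))

theorem ex_fixed : ∀ (k : Fin 14) (j : Fin MT.tab.l), (ex k (pre j)).swap = ex k j := by decide +kernel

theorem onto_ok : ∀ i : Fin 24, ¬ small i → wex (ontoK i) i = (1, 0) := by decide +kernel

theorem sep_ok : ∀ i j : Fin 24, i < j → ∃ k : Fin 14,
    (wex k i = 0 ∧ bigB (wex k j) = true) ∨ (wex k j = 0 ∧ bigB (wex k i) = true) := by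
  decide +kernel

theorem moves_ok : ∀ i : Fin 24, ∃ k : Fin 14, bigB (wex k i) = true := by decide +kernel

variable {F : Type*} [Field F]

/-- `t ^ (a + b q)` -/
def mono (q : ℕ) (t : Fˣ) (z : ℤ × ℤ) : Fˣ := t ^ (z.1 + z.2 * q)

/-- the parameters -/
abbrev TPar (F : Type*) [Field F] : Type _ := Fˣ × Fin 14

/-- the parameter vector of a member of a family -/
def par (q : ℕ) (s : TPar F) (j : Fin MT.tab.l) : Fˣ := mono q s.1 (ex s.2 j)

/-- the character of a factor -/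
def wgt (q : ℕ) (i : Fin 24) (s : TPar F) : Fˣ := chi MT (par q s) (rep i)

theorem prod_zpow_eq {G ι : Type*} [CommGroup G] (s : Finset ι) (a : G) (f : ι → ℤ) :
    ∏ j ∈ s, a ^ f j = a ^ ∑ j ∈ s, f j := by
  classical
  induction s using Finset.induction_on with
  | empty => simp
  | insert j s hj ih => rw [Finset.prod_insert hj, Finset.sum_insert hj, zpow_add, ih]

theorem wgt_eq (q : ℕ) (i : Fin 24) (s : TPar F) : wgt q i s = mono q s.1 (wex s.2 i) := by
  show (∏ j : Fin MT.tab.l, mono q s.1 (ex s.2 j) ^ chevE6.pairing ((MT.S).simple j).val (rep i).val) = _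
  simp only [mono, ← zpow_mul]
  rw [prod_zpow_eq]
  congr 1
  have h1 : wex s.2 i = ∑ j : Fin MT.tab.l,
      (chevE6.pairing ((MT.S).simple j).val (rep i).val) • ex s.2 j :=
    (Fin.sum_univ_def _).symm
  rw [h1, Prod.fst_sum, Prod.snd_sum, Finset.sum_mul, ← Finset.sum_add_distrib]
  refine Finset.sum_congr rfl fun j _ => ?_
  simp only [Prod.smul_fst, Prod.smul_snd, smul_eq_mul]
  ring

theorem mono_one (q : ℕ) (z : ℤ × ℤ) : mono q (1 : Fˣ) z = 1 := one_zpow _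

theorem mono_zero (q : ℕ) (t : Fˣ) : mono q t 0 = 1 := by simp [mono]

variable [Fintype F] {q : ℕ} (hq : IsPrimePow q) (hK : Fintype.card F = q ^ 2)
include hq hK

theorem unit_qq (t : Fˣ) : (t ^ q) ^ q = t :=
  Units.ext (by simpa using qpow_qpow hq hK (t : F))

theorem mono_swap (t : Fˣ) (z : ℤ × ℤ) : mono q t z ^ q = mono q t z.swap := by
  have h : t ^ ((q : ℤ) * q) = t := by
    rw [← Nat.cast_mul, zpow_natCast, pow_mul]
    exact unit_qq hq hK t
  rw [← zpow_natCast, mono, mono, ← zpow_mul, Prod.fst_swap, Prod.snd_swap,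
    show (z.1 + z.2 * q) * (q : ℤ) = z.1 * q + ((q : ℤ) * q) * z.2 by ring, zpow_add,
    zpow_mul t ((q : ℤ) * q), h, add_comm z.2, zpow_add]

theorem exists_gen : ∃ g : Fˣ, orderOf g = q ^ 2 - 1 := by
  obtain ⟨g, hg⟩ := IsCyclic.exists_ofOrder_eq_natCard (α := Fˣ)
  exact ⟨g, by rw [hg, Nat.card_units, Nat.card_eq_fintype_card, hK]⟩

theorem mono_ne_one (h3 : 3 ≤ q) {z : ℤ × ℤ} (hz : bigB z = true) :
    ∃ t : Fˣ, mono q t z ≠ 1 := by
  obtain ⟨g, hg⟩ := exists_gen hq hK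
  refine ⟨g, fun e => ?_⟩
  rw [mono, ← orderOf_dvd_iff_zpow_eq_one, hg] at e
  obtain ⟨a, b⟩ := z
  simp only [bigB, Bool.and_eq_true, decide_eq_true_eq, ne_eq, Prod.ext_iff, Prod.fst_zero,
    Prod.snd_zero, abs_le] at hz e
  obtain ⟨⟨⟨⟨h0, ha⟩, hb⟩, h22⟩, h22'⟩ := hz
  have h1 : ((q ^ 2 - 1 : ℕ) : ℤ) = (q : ℤ) ^ 2 - 1 := by
    rw [Nat.cast_sub (Nat.one_le_pow _ _ hq.pos)]; push_cast; rfl
  rw [h1] at e
  have hq3 : (3 : ℤ) ≤ q := by exact_mod_cast h3
  have hb' : b = -2 ∨ b = -1 ∨ b = 0 ∨ b = 1 ∨ b = 2 := by omega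
  have key : a + b * q ≠ 0 ∧ -((q : ℤ) ^ 2 - 1) < a + b * q ∧ a + b * q < (q : ℤ) ^ 2 - 1 := by
    have hsq : 3 * (q : ℤ) ≤ (q : ℤ) ^ 2 := by nlinarith
    have hcase : (q : ℤ) = 3 ∨ 4 * (q : ℤ) ≤ (q : ℤ) ^ 2 := by
      rcases (show (q : ℤ) = 3 ∨ 4 ≤ (q : ℤ) by omega) with h | h
      · exact Or.inl h
      · exact Or.inr (by nlinarith)
    have hq9 : (q : ℤ) = 3 → (q : ℤ) ^ 2 = 9 := fun h => by rw [h]; norm_num
    generalize (q : ℤ) ^ 2 = Q at *
    rcases hb' with rfl | rfl | rfl | rfl | rfl <;> refine ⟨?_, ?_, ?_⟩ <;> omega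
  rcases Int.lt_or_le 0 (a + b * q) with h | h
  · exact absurd (Int.le_of_dvd h e) (not_le.2 key.2.2)
  · have h' : 0 < -(a + b * q) := by omega
    exact absurd (Int.le_of_dvd h' (dvd_neg.2 e)) (by omega)

variable {K : Rels chevE6 F} (Z : Frame (T := MT) K PP q fd)

set_option quotPrecheck false in
local notation "G₁" => genG MT K (e6Words F q)

include Z

theorem sig_par (s : TPar F) : Z.sig pre (par q s) = par q s := by
  funext j
  rw [sig_apply Z, par, par, mono_swap hq hK, ex_fixed]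

/-- the torus element of a parameter -/
noncomputable def hT (s : TPar F) : ↥G₁ :=
  ⟨tor MT K (par q s), torus_mem Z (qpow_hom hq hK).1 hq.pos.ne' _ (sig_par hq hK Z s)⟩

theorem chi_fac (i : Fin 24) (s : TPar F) {t : F} (ht : t ∈ Vf hq hK i)
    (r : Fin MT.tab.n) (hr : r ∈ fac i) :
    (chi MT (par q s) r : F) * co q i t r = co q i ((wgt q i s : F) * t) r := by
  rcases fac_cases i r hr with rfl | rfl
  · rw [co_rep, co_rep]; rfl
  by_cases hi : small i
  · rw [show fd.O.rho (rep i) = rep i from hi, co_rep, co_rep]; rfl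
  have h1 : Z.σ (tor MT K (par q s) * (MT.rel K).x (rep i) 1 * (tor MT K (par q s))⁻¹) =
      Z.σ ((MT.rel K).x (rep i) (wgt q i s : F)) := by
    congr 1
    have := Z.tor_prodX_conj (L := [rep i]) (par q s) (fun _ => (1 : F))
    simpa [prodX, wgt] using this
  have hc : Z.σ (tor MT K (par q s)) = tor MT K (par q s) :=
    fixed_gen Z (qpow_hom hq hK).2.2 _ (hT hq hK Z s).2
  rw [map_mul, map_mul, map_inv, hc, Z.σ_x, Z.σ_x, lam_q, one_pow, mul_one] at h1
  have h2 := Z.tor_prodX_conj (L := [fd.O.rho (rep i)]) (par q s) (fun _ => (PP.ef (rep i).val : F))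
  simp only [prodX, List.map_cons, List.map_nil, List.prod_cons, List.prod_nil, mul_one] at h2
  rw [h2] at h1
  have h3 := Z.iso.x_injective _ h1
  rw [co_rho q hi, co_rho q hi, ← mul_assoc, h3, mul_pow, mul_assoc]

theorem hT_conj (i : Fin 24) (s : TPar F) {t : F} (ht : t ∈ Vf hq hK i)
    (ht' : (wgt q i s : F) * t ∈ Vf hq hK i) :
    hT hq hK Z s * eF Z hq hK i t * (hT hq hK Z s)⁻¹ = eF Z hq hK i ((wgt q i s : F) * t) := by
  refine Subtype.ext ?_
  rw [Subgroup.coe_mul, Subgroup.coe_mul, Subgroup.coe_inv, eF_coe Z hq hK i ht,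
    eF_coe Z hq hK i ht', show (hT hq hK Z s : ↥(chevE6.group F)) = tor MT K (par q s) from rfl,
    Z.tor_prodX_conj]
  exact Z.prodX_congr fun r hr => chi_fac hq hK Z i s ht r hr

theorem wgt_mul_mem (i : Fin 24) (s : TPar F) {t : F} (ht : t ∈ Vf hq hK i) :
    (wgt q i s : F) * t ∈ Vf hq hK i := by
  by_cases hi : small i
  · have hr : fd.O.rho (rep i) = rep i := hi
    have h0 := (hT hq hK Z s * eF Z hq hK i t * (hT hq hK Z s)⁻¹).2
    rw [Subgroup.coe_mul, Subgroup.coe_mul, Subgroup.coe_inv, eF_coe Z hq hK i ht,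
      show (hT hq hK Z s : ↥(chevE6.group F)) = tor MT K (par q s) from rfl,
      Z.tor_prodX_conj, ((ef_rep i).2 hi).2] at h0
    have h1 : Z.σ ((MT.rel K).x (rep i) ((wgt q i s : F) * t)) =
        (MT.rel K).x (rep i) ((wgt q i s : F) * t) := by
      have := fixed_gen Z (qpow_hom hq hK).2.2 _ h0
      simpa [prodX, wgt, co_rep] using this
    rw [Z.σ_x, lam_q, hr, ((ef_rep i).2 hi).1, Int.cast_one, one_mul] at h1
    exact (mem_Vf_small hq hK hi).2 (Z.iso.x_injective _ h1)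
  · exact mem_Vf_big hq hK hi _

end Cfsg.Agent.Twisted.TypeE6
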